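import Cfsg.Agent.Lib.KInf.Criterion

/-!
The degree of unipotent action on the chief factors of a normal `p`-subgroup, from the degrees inside a critical subgroup.
-/

set_option autoImplicit false
set_option linter.unusedSectionVars false

namespace CfsgLib.KInf

open CfsgLib Cfsg
open scoped commutatorElement

variable {G : Type*} [Group G]

/-- The `k`-fold commutator with `g`. -/
def dl (g : G) (k : ℕ) (u : G) : G := (fun x => ⁅g, x⁆)^[k] u

theorem dl_zero (g u : G) : dl g 0 u = u := rfl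

theorem dl_succ (g : G) (k : ℕ) (u : G) : dl g (k + 1) u = ⁅g, dl g k u⁆ := Function.iterate_succ_apply' _ _ _

theorem dl_succ' (g : G) (k : ℕ) (u : G) : dl g (k + 1) u = dl g k ⁅g, u⁆ := Function.iterate_succ_apply _ _ _

theorem dl_one_right (g : G) (k : ℕ) : dl g k 1 = 1 := by
  induction k with
  | zero => rfl
  | succ k ih => rw [dl_succ, ih, commutatorElement_one_right]

theorem map_dl {H : Type*} [Group H] (f : G →* H) (g : G) (k : ℕ) (u : G) : f (dl g k u) = dl (f g) k (f u) := by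
  induction k with
  | zero => rfl
  | succ k ih => rw [dl_succ, dl_succ, map_commutatorElement, ih]

theorem dl_mem {W : Subgroup G} [W.Normal] (g : G) {u : G} (hu : u ∈ W) (k : ℕ) : dl g k u ∈ W := by
  induction k with
  | zero => exact hu
  | succ k ih =>
    rw [dl_succ, commutatorElement_def]
    exact mul_mem (‹W.Normal›.conj_mem _ ih g) (inv_mem ih)

theorem dl_mul {W : Subgroup G} [W.Normal] (hc : ∀ a ∈ W, ∀ b ∈ W, a * b = b * a) (g : G) {a b : G} (ha : a ∈ W)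
    (hb : b ∈ W) (k : ℕ) : dl g k (a * b) = dl g k a * dl g k b := by
  induction k with
  | zero => rfl
  | succ k ih =>
    rw [dl_succ, dl_succ, dl_succ, ih]
    set x := dl g k a
    set y := dl g k b
    have hx : x ∈ W := dl_mem g ha k
    have hy : ⁅g, y⁆ ∈ W := by rw [← dl_succ]; exact dl_mem g hb (k + 1)
    rw [show ⁅g, x * y⁆ = ⁅g, x⁆ * (x * ⁅g, y⁆ * x⁻¹) by simp only [commutatorElement_def]; group, hc x hx _ hy,
      mul_inv_cancel_right]

theorem dl_mem_iterCommutator {U : Subgroup G} {g u : G} (hu : u ∈ U) (k : ℕ) :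
    dl g k u ∈ iterCommutator U (Subgroup.zpowers g) k := by
  induction k with
  | zero => exact hu
  | succ k ih =>
    rw [dl_succ, show ⁅g, dl g k u⁆ = ⁅dl g k u, g⁆⁻¹ by simp]
    exact inv_mem (Subgroup.commutator_mem_commutator ih (Subgroup.mem_zpowers g))

theorem commutator_le_of_abelian {U V : Subgroup G} (hab : ⁅U, U⁆ ≤ V) [V.Normal] :
    ∀ a ∈ U.map (QuotientGroup.mk' V), ∀ b ∈ U.map (QuotientGroup.mk' V), a * b = b * a := by
  rintro _ ⟨a, ha, rfl⟩ _ ⟨b, hb, rfl⟩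
  rw [← commutatorElement_eq_one_iff_mul_comm, ← map_commutatorElement]
  exact (QuotientGroup.eq_one_iff _).2 (hab (Subgroup.commutator_mem_commutator ha hb))

theorem iterCommutator_le_of_dl {U V : Subgroup G} [U.Normal] [V.Normal] (hab : ⁅U, U⁆ ≤ V) {g : G} {n : ℕ}
    (h : ∀ u ∈ U, dl g n u ∈ V) : iterCommutator U (Subgroup.zpowers g) n ≤ V := by
  set π := QuotientGroup.mk' V
  haveI : (U.map π).Normal := Subgroup.Normal.map inferInstance π (QuotientGroup.mk'_surjective V)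
  have hc := commutator_le_of_abelian hab
  set x := π g
  let X : ℕ → Subgroup (G ⧸ V) := fun k =>
    { carrier := {y | y ∈ U.map π ∧ dl x k y = 1}
      one_mem' := ⟨one_mem _, dl_one_right _ _⟩
      mul_mem' := fun {a b} ha hb => ⟨mul_mem ha.1 hb.1, by rw [dl_mul hc x ha.1 hb.1, ha.2, hb.2, one_mul]⟩
      inv_mem' := fun {a} ha => ⟨inv_mem ha.1, by
        have := dl_mul hc x (inv_mem ha.1) ha.1 k
        rw [inv_mul_cancel, dl_one_right, ha.2, mul_one] at this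
        exact this.symm⟩ }
  have hstep : ∀ k, ⁅X (k + 1), Subgroup.zpowers x⁆ ≤ X k := by
    intro k
    rw [Subgroup.commutator_le]
    intro y hy z hz
    let K : Subgroup (G ⧸ V) :=
      { carrier := {h | h ∈ Subgroup.normalizer (X k : Set (G ⧸ V)) ∧ ∀ y ∈ X (k + 1), ⁅h, y⁆ ∈ X k}
        one_mem' := ⟨one_mem _, fun y _ => by simp⟩
        mul_mem' := fun {a b} ha hb => ⟨mul_mem ha.1 hb.1, fun y hy => by
          rw [show ⁅a * b, y⁆ = a * ⁅b, y⁆ * a⁻¹ * ⁅a, y⁆ by simp only [commutatorElement_def]; group]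
          exact mul_mem ((Subgroup.mem_normalizer_iff.1 ha.1 _).1 (hb.2 y hy)) (ha.2 y hy)⟩
        inv_mem' := fun {a} ha => ⟨inv_mem ha.1, fun y hy => by
          rw [show ⁅a⁻¹, y⁆ = a⁻¹ * ⁅a, y⁆⁻¹ * a⁻¹⁻¹ by simp only [commutatorElement_def]; group]
          exact (Subgroup.mem_normalizer_iff.1 (inv_mem ha.1) _).1 (inv_mem (ha.2 y hy))⟩ }
    have hxK : x ∈ K := by
      refine ⟨?_, fun y hy => ⟨?_, ?_⟩⟩
      · rw [Subgroup.mem_normalizer_iff]
        have hmap : ∀ (m : ℕ) (w : G ⧸ V), dl x m (x * w * x⁻¹) = x * dl x m w * x⁻¹ := by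
          intro m w
          induction m with
          | zero => rfl
          | succ m ih => rw [dl_succ, dl_succ, ih]; simp only [commutatorElement_def]; group
        refine fun w => ⟨fun hw => ⟨(‹(U.map π).Normal›).conj_mem _ hw.1 _, by rw [hmap, hw.2]; group⟩,
          fun hw => ⟨?_, ?_⟩⟩
        · have := (‹(U.map π).Normal›).conj_mem _ hw.1 x⁻¹
          rwa [show x⁻¹ * (x * w * x⁻¹) * x⁻¹⁻¹ = w by group] at this
        · have := hw.2
          rw [hmap] at this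
          exact conj_eq_one_iff.1 this
      · rw [commutatorElement_def]
        exact mul_mem ((‹(U.map π).Normal›).conj_mem _ hy.1 x) (inv_mem hy.1)
      · rw [← dl_succ']; exact hy.2
    obtain ⟨m, rfl⟩ := Subgroup.mem_zpowers_iff.1 hz
    rw [show ⁅y, x ^ m⁆ = ⁅x ^ m, y⁆⁻¹ by simp]
    exact inv_mem ((zpow_mem hxK m).2 y hy)
  have hrun : ∀ k ≤ n, (iterCommutator U (Subgroup.zpowers g) k).map π ≤ X (n - k) := by
    intro k
    induction k with
    | zero =>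
      intro _
      rintro _ ⟨u, hu, rfl⟩
      exact ⟨⟨u, hu, rfl⟩, by
        rw [Nat.sub_zero, ← map_dl]
        exact (QuotientGroup.eq_one_iff _).2 (h u hu)⟩
    | succ k ih =>
      intro hk
      show (⁅iterCommutator U (Subgroup.zpowers g) k, Subgroup.zpowers g⁆).map π ≤ _
      rw [Subgroup.map_commutator, MonoidHom.map_zpowers]
      refine (Subgroup.commutator_mono (ih (by omega)) le_rfl).trans ?_
      rw [show n - k = n - (k + 1) + 1 by omega]
      exact hstep _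
  intro y hy
  have h0 := hrun n le_rfl ⟨y, hy, rfl⟩
  rw [Nat.sub_self] at h0
  exact (QuotientGroup.eq_one_iff y).1 h0.2

variable [Finite G] {p : ℕ} [hp : Fact p.Prime]

theorem commutator_le_of_chief {T : Subgroup G} [T.Normal] (hT : IsPGroup p T) {U V : Subgroup G}
    (hUV : IsChiefFactor U V) (hUT : U ≤ T) : ⁅U, T⁆ ≤ V := by
  haveI := hUV.2.1
  haveI := hUV.2.2.1
  rw [Subgroup.commutator_le]
  intro u hu t ht
  by_contra hc
  exact not_mem_of_acts hT hUV hUT (g := t)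
    (fun h => hc (h (Subgroup.commutator_mem_commutator hu (Subgroup.mem_zpowers t)))) ht

theorem degree_bound {P Q : Subgroup G} [P.Normal] [Q.Normal] (hP : IsPGroup p P) (hQP : Q ≤ P)
    (hQ3 : ⁅P, Q⁆ ≤ Q ⊓ Subgroup.centralizer (Q : Set G)) (hQ4 : P ⊓ Subgroup.centralizer (Q : Set G) ≤ Q)
    {g : G} {i j : ℕ} (hi : 1 ≤ i) (hj : 1 ≤ j)
    (hQi : ∀ U V : Subgroup G, IsChiefFactor U V → U ≤ Q → iterCommutator U (Subgroup.zpowers g) i ≤ V)
    (hZj : ∀ U V : Subgroup G, IsChiefFactor U V → U ≤ Q ⊓ Subgroup.centralizer (Q : Set G) →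
      iterCommutator U (Subgroup.zpowers g) j ≤ V)
    {U V : Subgroup G} (hUV : IsChiefFactor U V) (hUP : U ≤ P) :
    iterCommutator U (Subgroup.zpowers g) (i + j - 1) ≤ V := by
  obtain ⟨hlt, hUn, hVn, hchief⟩ := hUV
  haveI := hUn
  haveI := hVn
  have habU : ⁅U, U⁆ ≤ V := (Subgroup.commutator_mono le_rfl hUP).trans
    (commutator_le_of_chief hP ⟨hlt, hUn, hVn, hchief⟩ hUP)
  refine iterCommutator_le_of_dl habU ?_
  -- a minimal cover
  obtain ⟨U', hU'⟩ := (Set.toFinite {X : Subgroup G | X.Normal ∧ X ≤ U ∧ ¬ X ≤ V}).exists_minimal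
    ⟨U, hUn, le_rfl, hlt.not_ge⟩
  obtain ⟨hU'n, hU'U, hU'V⟩ := hU'.prop
  haveI := hU'n
  have hcov : U ≤ U' ⊔ V := by
    rcases hchief (U' ⊔ V) (Subgroup.sup_normal _ _) le_sup_right (sup_le hU'U hlt.le) with h | h
    · exact absurd (le_sup_left.trans h.le) hU'V
    · exact h.ge
  have hsmall : ∀ K : Subgroup G, K.Normal → K ≤ U' → ¬ U' ≤ K → K ≤ V := fun K hK hKU hne => by
    by_contra hKV
    exact hne (hU'.2 ⟨hK, hKU.trans hU'U, hKV⟩ hKU)
  have hc' := commutator_le_of_abelian habU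
  haveI : (U.map (QuotientGroup.mk' V)).Normal :=
    Subgroup.Normal.map inferInstance _ (QuotientGroup.mk'_surjective V)
  suffices hmain : ∀ u ∈ U', dl g (i + j - 1) u ∈ V by
    intro u hu
    obtain ⟨a, ha, b, hb, rfl⟩ : ∃ a ∈ U', ∃ b ∈ V, u = a * b := by
      have h := hcov hu
      rw [← SetLike.mem_coe, Subgroup.normal_mul] at h
      obtain ⟨a, ha, b, hb, e⟩ := h
      exact ⟨a, ha, b, hb, e.symm⟩
    refine (QuotientGroup.eq_one_iff _).1 ?_
    show QuotientGroup.mk' V (dl g _ (a * b)) = 1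
    rw [map_dl, map_mul, show QuotientGroup.mk' V b = 1 from (QuotientGroup.eq_one_iff b).2 hb, mul_one, ← map_dl]
    exact (QuotientGroup.eq_one_iff _).2 (hmain a ha)
  by_cases hU'Q : U' ≤ Q
  · intro u hu
    have hch : IsChiefFactor U' (U' ⊓ V) := ⟨lt_of_le_of_ne inf_le_left fun e => hU'V (inf_eq_left.1 e), hU'n,
      inferInstance, fun N hN hVN hNU => by
        by_cases h : U' ≤ N
        · exact .inr (le_antisymm hNU h)
        · exact .inl (le_antisymm (le_inf hNU (hsmall N hN hNU h)) hVN)⟩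
    haveI := hch.2.2.1
    obtain ⟨m, hm⟩ : ∃ m, i + j - 1 = m + i := ⟨j - 1, by omega⟩
    have h1 : dl g i u ∈ U' ⊓ V := hQi U' _ hch hU'Q (dl_mem_iterCommutator hu i)
    rw [hm, show dl g (m + i) u = dl g m (dl g i u) from Function.iterate_add_apply _ m i u]
    exact (dl_mem g h1 m).2
  -- the pairing
  set Z := Q ⊓ Subgroup.centralizer (Q : Set G) with hZ
  haveI : Z.Normal := inferInstanceAs (Q ⊓ Subgroup.centralizer (Q : Set G)).Normal
  have hUQZ : ⁅U', Q⁆ ≤ Z := (Subgroup.commutator_mono (hU'U.trans hUP) le_rfl).trans hQ3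
  have hne : ⁅U', Q⁆ ≠ ⊥ := fun e => hU'Q fun u hu => hQ4 ⟨hU'U.trans hUP hu,
    (Subgroup.commutator_eq_bot_iff_le_centralizer.1 e) hu⟩
  obtain ⟨Y', -, hYY⟩ := exists_chief_between (U := ⁅U', Q⁆) (W := ⊥) (bot_lt_iff_ne_bot.2 hne)
  haveI := hYY.2.2.1
  obtain ⟨Q', hQ'⟩ := (Set.toFinite {X : Subgroup G | X.Normal ∧ X ≤ Q ∧ ¬ ⁅U', X⁆ ≤ Y'}).exists_minimal
    ⟨Q, ‹_›, le_rfl, hYY.1.not_ge⟩
  obtain ⟨hQ'n, hQ'Q, hQ'Y⟩ := hQ'.prop
  haveI := hQ'n
  have hQ'0 : (⊥ : Subgroup G) < Q' := bot_lt_iff_ne_bot.2 fun e => hQ'Y (by rw [e]; simp)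
  obtain ⟨Q'', -, hQQ⟩ := exists_chief_between hQ'0
  haveI := hQQ.2.2.1
  have hQ''Y : ⁅U', Q''⁆ ≤ Y' := by
    by_contra h
    exact hQQ.1.not_ge (hQ'.2 ⟨hQQ.2.2.1, hQQ.1.le.trans hQ'Q, h⟩ hQQ.1.le)
  set π := QuotientGroup.mk' Y'
  have hsur := QuotientGroup.mk'_surjective Y'
  haveI : ((⁅U', Q⁆).map π).Normal := Subgroup.Normal.map inferInstance π hsur
  set Yb := (⁅U', Q⁆).map π
  have hYc : ∀ a ∈ Yb, ∀ b ∈ Yb, a * b = b * a := by
    rintro _ ⟨a, ha, rfl⟩ _ ⟨b, hb, rfl⟩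
    rw [← map_mul, ← map_mul, ((hUQZ hb).2 a (hUQZ ha).1)]
  have hYp : ∀ x ∈ P, ∀ a ∈ Yb, π x * a = a * π x := by
    rintro x hx _ ⟨a, ha, rfl⟩
    rw [← commutatorElement_eq_one_iff_mul_comm, ← map_commutatorElement]
    refine (QuotientGroup.eq_one_iff _).2 ?_
    rw [show ⁅x, a⁆ = ⁅a, x⁆⁻¹ by simp]
    exact inv_mem (commutator_le_of_chief hP hYY ((hUQZ.trans inf_le_left).trans hQP)
      (Subgroup.commutator_mem_commutator ha hx))
  have hβ : ∀ u ∈ U', ∀ q ∈ Q, π ⁅u, q⁆ ∈ Yb := fun u hu q hq => ⟨_, Subgroup.commutator_mem_commutator hu hq, rfl⟩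
  have hl : ∀ a ∈ U', ∀ b ∈ U', ∀ q ∈ Q, π ⁅a * b, q⁆ = π ⁅a, q⁆ * π ⁅b, q⁆ := by
    intro a ha b hb q hq
    rw [show ⁅a * b, q⁆ = a * ⁅b, q⁆ * a⁻¹ * ⁅a, q⁆ by simp only [commutatorElement_def]; group, map_mul, map_mul,
      map_mul, map_inv, hYp a (hU'U.trans hUP ha) _ (hβ b hb q hq), mul_inv_cancel_right,
      hYc _ (hβ b hb q hq) _ (hβ a ha q hq)]
  have hr : ∀ u ∈ U', ∀ a ∈ Q, ∀ b ∈ Q, π ⁅u, a * b⁆ = π ⁅u, a⁆ * π ⁅u, b⁆ := by
    intro u hu a ha b hb
    rw [show ⁅u, a * b⁆ = ⁅u, a⁆ * (a * ⁅u, b⁆ * a⁻¹) by simp only [commutatorElement_def]; group, map_mul,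
      map_mul, map_mul, map_inv, hYp a (hQP ha) _ (hβ u hu b hb), mul_inv_cancel_right]
  have hY0 : ∀ a ∈ Yb, dl (π g) j a = 1 := by
    rintro _ ⟨a, ha, rfl⟩
    rw [← map_dl]
    exact (QuotientGroup.eq_one_iff _).2 (hZj _ _ hYY hUQZ (dl_mem_iterCommutator ha j))
  set gb := π g
  -- one step of the pairing
  have hdl : ∀ u ∈ U', ∀ q ∈ Q, dl gb 1 (π ⁅u, q⁆) =
      π ⁅⁅g, u⁆, ⁅g, q⁆⁆ * π ⁅⁅g, u⁆, q⁆ * π ⁅u, ⁅g, q⁆⁆ := by
    intro u hu q hq
    have hu' : ⁅g, u⁆ ∈ U' := dl_mem g hu 1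
    have hq' : ⁅g, q⁆ ∈ Q := dl_mem g hq 1
    have e : g * ⁅u, q⁆ * g⁻¹ = ⁅⁅g, u⁆ * u, ⁅g, q⁆ * q⁆ := by simp only [commutatorElement_def]; group
    show ⁅π g, π ⁅u, q⁆⁆ = _
    rw [← map_commutatorElement, commutatorElement_def g, e, map_mul, map_inv, hl _ hu' _ hu _ (mul_mem hq' hq),
      hr _ hu' _ hq' _ hq, hr _ hu _ hq' _ hq]
    group
  have key : ∀ m d k l : ℕ, i ≤ k + d → i + j - 1 ≤ m + k + l → ∀ u ∈ U', ∀ q ∈ Q',
      dl gb l (π ⁅dl g m u, dl g k q⁆) = 1 := by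
    have hbase : ∀ k l, i ≤ k → ∀ u ∈ U', ∀ q ∈ Q', dl gb l (π ⁅u, dl g k q⁆) = 1 := by
      intro k l hk u hu q hq
      obtain ⟨m, rfl⟩ := Nat.exists_eq_add_of_le hk
      rw [show π ⁅u, dl g (i + m) q⁆ = 1 from (QuotientGroup.eq_one_iff _).2 (hQ''Y
        (Subgroup.commutator_mem_commutator hu (by
          rw [Nat.add_comm, show dl g (m + i) q = dl g m (dl g i q) from Function.iterate_add_apply _ m i q]
          exact dl_mem g (hQi _ _ hQQ hQ'Q (dl_mem_iterCommutator hq i)) m))), dl_one_right]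
    intro m
    induction m with
    | zero =>
      intro d k l _ hn u hu q hq
      rcases le_or_gt i k with hk | hk
      · exact hbase k l hk _ (dl_mem g hu _) q hq
      · obtain ⟨e, rfl⟩ : ∃ e, l = e + j := ⟨l - j, by omega⟩
        rw [show dl gb (e + j) _ = dl gb e (dl gb j _) from Function.iterate_add_apply _ e j _,
          hY0 _ (hβ _ (dl_mem g hu _) _ (hQ'Q (dl_mem g hq k))), dl_one_right]
    | succ m ih =>
      intro d
      induction d with
      | zero => intro k l hk _ u hu q hq; exact hbase k l (by omega) _ (dl_mem g hu _) q hq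
      | succ d ihd =>
        intro k l hk hn u hu q hq
        have hu' := dl_mem (W := U') g hu m
        have hu'' := dl_mem (W := U') g hu (m + 1)
        have hq' := hQ'Q (dl_mem (W := Q') g hq k)
        have hq'' := hQ'Q (dl_mem (W := Q') g hq (k + 1))
        have h1 := hdl _ hu' _ hq'
        rw [← dl_succ g m u, ← dl_succ g k q] at h1
        have h2 := congrArg (dl gb l) h1
        rw [← show dl gb (l + 1) (π ⁅dl g m u, dl g k q⁆) = dl gb l (dl gb 1 (π ⁅dl g m u, dl g k q⁆)) from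
          Function.iterate_add_apply _ l 1 _] at h2
        rw [dl_mul hYc gb (mul_mem (hβ _ hu'' _ hq'') (hβ _ hu'' _ hq')) (hβ _ hu' _ hq''),
          dl_mul hYc gb (hβ _ hu'' _ hq'') (hβ _ hu'' _ hq'),
          ih i k (l + 1) (by omega) (by omega) u hu q hq, ih i (k + 1) l (by omega) (by omega) u hu q hq,
          ihd (k + 1) l (by omega) (by omega) u hu q hq, one_mul, mul_one] at h2
        exact h2.symm
  -- the left kernel
  let K : Subgroup G :=
    { carrier := {u | u ∈ U' ∧ ∀ q ∈ Q', π ⁅u, q⁆ = 1}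
      one_mem' := ⟨one_mem _, fun q _ => by simp⟩
      mul_mem' := fun {a b} ha hb => ⟨mul_mem ha.1 hb.1, fun q hq => by
        rw [hl a ha.1 b hb.1 q (hQ'Q hq), ha.2 q hq, hb.2 q hq, one_mul]⟩
      inv_mem' := fun {a} ha => ⟨inv_mem ha.1, fun q hq => by
        have := hl a⁻¹ (inv_mem ha.1) a ha.1 q (hQ'Q hq)
        rw [inv_mul_cancel, commutatorElement_one_left, map_one, ha.2 q hq, mul_one] at this
        exact this.symm⟩ }
  have hK : K.Normal := ⟨fun u hu x => ⟨hU'n.conj_mem u hu.1 x, fun q hq => by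
    have e : ⁅x * u * x⁻¹, q⁆ = x * ⁅u, x⁻¹ * q * x⁆ * x⁻¹ := by simp only [commutatorElement_def]; group
    rw [e, map_mul, map_mul, map_inv, hu.2 _ (by simpa using hQ'n.conj_mem q hq x⁻¹)]
    group⟩⟩
  have hKV : K ≤ V := hsmall K hK (fun u hu => hu.1) fun hle => hQ'Y (by
    rw [Subgroup.commutator_le]
    exact fun u hu q hq => (QuotientGroup.eq_one_iff _).1 ((hle hu).2 q hq))
  intro u hu
  refine hKV ⟨dl_mem g hu _, fun q hq => ?_⟩
  have := key (i + j - 1) i 0 0 (by omega) (by omega) u hu q hq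
  simpa [dl_zero] using this

end CfsgLib.KInf
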