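import Cfsg.Agent.Lib.Basic
import Cfsg.Agent.Lib.CoprimeSeries
import Cfsg.Prelude.Def_PLocal
import Cfsg.Prelude.Def_LocalEven

/-!
An element acting cubically on a group of class two centralizes the commutator pairing when that pairing is acted on
trivially at the second step (odd primes).
-/

set_option autoImplicit false
set_option linter.unusedSectionVars false

namespace CfsgLib.KInf

open CfsgLib Cfsg CfsgLib.Stabilizer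
open scoped commutatorElement

variable {G : Type*} [Group G]

theorem left_mul {X : Subgroup G} {x y w : G} (hx : x ∈ X) (h : ⁅y, w⁆ ∈ Subgroup.centralizer (X : Set G)) :
    ⁅x * y, w⁆ = ⁅y, w⁆ * ⁅x, w⁆ := by
  rw [show ⁅x * y, w⁆ = x * ⁅y, w⁆ * x⁻¹ * ⁅x, w⁆ by simp only [commutatorElement_def]; group, h x hx,
    mul_inv_cancel_right]

theorem right_mul {X : Subgroup G} {u x y : G} (hx : x ∈ X) (h : ⁅u, y⁆ ∈ Subgroup.centralizer (X : Set G)) :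
    ⁅u, x * y⁆ = ⁅u, x⁆ * ⁅u, y⁆ := by
  rw [show ⁅u, x * y⁆ = ⁅u, x⁆ * (x * ⁅u, y⁆ * x⁻¹) by simp only [commutatorElement_def]; group, h x hx,
    mul_inv_cancel_right]

theorem conj_comm (n u w : G) : ⁅n * u * n⁻¹, n * w * n⁻¹⁆ = n * ⁅u, w⁆ * n⁻¹ := by
  simp only [commutatorElement_def]; group

theorem conj_eq_mul (g u : G) : g * u * g⁻¹ = ⁅g, u⁆ * u := by simp only [commutatorElement_def]; group

theorem pairing_centralized [Finite G] {p : ℕ} [hp' : Fact p.Prime] (hp : p ≠ 2) {N U V : Subgroup G} [N.Normal]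
    [U.Normal] [V.Normal] (hU : IsPGroup p U) (hU2 : ⁅U, U⁆ ≤ Subgroup.centralizer (U : Set G))
    (hNN : ⁅⁅⁅U, U⁆, N⁆, N⁆ = ⊥) (hVlt : V < U)
    (hchief : ∀ W : Subgroup G, W.Normal → V ≤ W → W ≤ U → W = V ∨ W = U)
    (hVU : ⁅V, U⁆ = ⊥) {g : G} (hg : g ∈ N) (h3 : ∀ u ∈ U, ⁅g, ⁅g, ⁅g, u⁆⁆⁆ = 1)
    (h21 : ∀ u ∈ U, ∀ w ∈ U, ⁅⁅g, ⁅g, u⁆⁆, ⁅g, w⁆⁆ = 1) :
    ∀ u ∈ U, ∀ w ∈ U, ⁅g, ⁅u, w⁆⁆ = 1 := by
  classical
  have hUconj : ∀ n : G, ∀ u ∈ U, n * u * n⁻¹ ∈ U := fun n u hu => ‹U.Normal›.conj_mem u hu n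
  have hgU : ∀ u ∈ U, ⁅g, u⁆ ∈ U := fun u hu => by
    rw [commutatorElement_def]; exact mul_mem (hUconj g u hu) (inv_mem hu)
  have hc : ∀ u ∈ U, ∀ w ∈ U, ⁅u, w⁆ ∈ Subgroup.centralizer (U : Set G) := fun u hu w hw =>
    hU2 (Subgroup.commutator_mem_commutator hu hw)
  have hcU : ∀ u ∈ U, ∀ w ∈ U, ⁅u, w⁆ ∈ U := fun u hu w hw =>
    Subgroup.commutator_le_self U (Subgroup.commutator_mem_commutator hu hw)
  -- bilinearity
  have hl : ∀ u ∈ U, ∀ v ∈ U, ∀ w ∈ U, ⁅u * v, w⁆ = ⁅u, w⁆ * ⁅v, w⁆ := fun u hu v hv w hw => by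
    rw [left_mul hu (hc v hv w hw)]; exact hc u hu w hw _ (hcU v hv w hw)
  have hr : ∀ u ∈ U, ∀ v ∈ U, ∀ w ∈ U, ⁅u, v * w⁆ = ⁅u, v⁆ * ⁅u, w⁆ := fun u hu v hv w hw =>
    right_mul hv (hc u hu w hw)
  have hdis : ∀ u ∈ U, ∀ w ∈ U, ∀ x ∈ U, x * ⁅g, ⁅u, w⁆⁆ * x⁻¹ = ⁅g, ⁅u, w⁆⁆ := fun u hu w hw x hx => by
    have : ⁅g, ⁅u, w⁆⁆ ∈ Subgroup.centralizer (U : Set G) := by
      rw [commutatorElement_def g]
      exact mul_mem ((inferInstance : (Subgroup.centralizer (U : Set G)).Normal).conj_mem _ (hc u hu w hw) g)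
        (inv_mem (hc u hu w hw))
    rw [this x hx, mul_inv_cancel_right]
  have γl : ∀ u ∈ U, ∀ v ∈ U, ∀ w ∈ U, ⁅g, ⁅u * v, w⁆⁆ = ⁅g, ⁅u, w⁆⁆ * ⁅g, ⁅v, w⁆⁆ := fun u hu v hv w hw => by
    rw [hl u hu v hv w hw, show ⁅g, ⁅u, w⁆ * ⁅v, w⁆⁆ = ⁅g, ⁅u, w⁆⁆ * (⁅u, w⁆ * ⁅g, ⁅v, w⁆⁆ * ⁅u, w⁆⁻¹) by
      simp only [commutatorElement_def]; group, hdis v hv w hw _ (hcU u hu w hw)]
  have γr : ∀ u ∈ U, ∀ v ∈ U, ∀ w ∈ U, ⁅g, ⁅u, v * w⁆⁆ = ⁅g, ⁅u, v⁆⁆ * ⁅g, ⁅u, w⁆⁆ := fun u hu v hv w hw => by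
    rw [hr u hu v hv w hw, show ⁅g, ⁅u, v⁆ * ⁅u, w⁆⁆ = ⁅g, ⁅u, v⁆⁆ * (⁅u, v⁆ * ⁅g, ⁅u, w⁆⁆ * ⁅u, v⁆⁻¹) by
      simp only [commutatorElement_def]; group, hdis u hu w hw _ (hcU u hu v hv)]
  -- invariance under `N`
  have γinv : ∀ n ∈ N, ∀ u ∈ U, ∀ w ∈ U, ⁅g, ⁅n * u * n⁻¹, n * w * n⁻¹⁆⁆ = ⁅g, ⁅u, w⁆⁆ := by
    intro n hn u hu w hw
    rw [conj_comm, conj_eq_mul n]
    set c := ⁅u, w⁆
    have hd : ⁅⁅c, n⁆, g⁆ = 1 := Subgroup.mem_bot.1 (hNN.le (Subgroup.commutator_mem_commutator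
      (Subgroup.commutator_mem_commutator (Subgroup.commutator_mem_commutator hu hw) hn) hg))
    have hfix : g * ⁅n, c⁆ * g⁻¹ = ⁅n, c⁆ := by
      have h1 := commutatorElement_eq_one_iff_mul_comm.1 hd
      rw [show ⁅n, c⁆ = ⁅c, n⁆⁻¹ by simp]
      calc g * ⁅c, n⁆⁻¹ * g⁻¹ = (g * ⁅c, n⁆ * g⁻¹)⁻¹ := by group
        _ = ⁅c, n⁆⁻¹ := by rw [← h1, mul_inv_cancel_right]
    have hcc : ⁅n, c⁆ * ⁅g, c⁆ * ⁅n, c⁆⁻¹ = ⁅g, c⁆ := by
      refine hdis u hu w hw _ ?_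
      rw [commutatorElement_def n]
      exact mul_mem (hUconj n _ (hcU u hu w hw)) (inv_mem (hcU u hu w hw))
    rw [show ⁅g, ⁅n, c⁆ * c⁆ = g * ⁅n, c⁆ * g⁻¹ * ⁅n, c⁆⁻¹ * (⁅n, c⁆ * ⁅g, c⁆ * ⁅n, c⁆⁻¹) by
      simp only [commutatorElement_def g]; group, hfix, hcc, mul_inv_cancel, one_mul]
  have hVz : ∀ v ∈ V, ∀ u ∈ U, ⁅v, u⁆ = 1 := fun v hv u hu =>
    Subgroup.mem_bot.1 (hVU.le (Subgroup.commutator_mem_commutator hv hu))
  have hVz' : ∀ v ∈ V, ∀ u ∈ U, ⁅u, v⁆ = 1 := fun v hv u hu => by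
    rw [show ⁅u, v⁆ = ⁅v, u⁆⁻¹ by simp, hVz v hv u hu, inv_one]
  -- irreducible pieces
  set 𝒥 : Set (Subgroup G) := {J | V < J ∧ J ≤ U ∧ N ≤ Subgroup.normalizer (J : Set G)}
  set 𝓘 : Set (Subgroup G) := {I | I ∈ 𝒥 ∧ ∀ J ∈ 𝒥, J ≤ I → J = I}
  obtain ⟨I₀, hI₀⟩ := (Set.toFinite 𝒥).exists_minimal
    ⟨U, hVlt, le_rfl, le_top.trans (Subgroup.normalizer_eq_top U).ge⟩
  have hI₀' : I₀ ∈ 𝓘 := ⟨hI₀.prop, fun J hJ hle => le_antisymm hle (hI₀.2 hJ hle)⟩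
  have hsN : (sSup 𝓘).Normal := by
    refine ⟨fun x hx n => ?_⟩
    suffices h : sSup 𝓘 ≤ (sSup 𝓘).comap (MulAut.conj n).toMonoidHom from h hx
    refine sSup_le fun I hI => Subgroup.map_le_iff_le_comap.1 (le_sSup ?_)
    set φ := (MulAut.conj n).toMonoidHom
    have hmapN : ∀ {H : Subgroup G}, H.Normal → H.map φ = H := fun {H} hH => by
      ext y
      constructor
      · rintro ⟨z, hz, rfl⟩; exact hH.conj_mem z hz n
      · exact fun hy => ⟨n⁻¹ * y * n, by simpa using hH.conj_mem y hy n⁻¹, by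
          show n * (n⁻¹ * y * n) * n⁻¹ = y; group⟩
    have hmem : ∀ {J : Subgroup G} (m : G), J ∈ 𝒥 → J.map (MulAut.conj m).toMonoidHom ∈ 𝒥 := by
      intro J m hJ
      have hN : ∀ {H : Subgroup G}, H.Normal → H.map (MulAut.conj m).toMonoidHom = H := fun {H} hH => by
        ext y
        constructor
        · rintro ⟨z, hz, rfl⟩; exact hH.conj_mem z hz m
        · exact fun hy => ⟨m⁻¹ * y * m, by simpa using hH.conj_mem y hy m⁻¹, by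
            show m * (m⁻¹ * y * m) * m⁻¹ = y; group⟩
      refine ⟨?_, ?_, ?_⟩
      · conv_lhs => rw [← hN ‹V.Normal›]
        exact (Subgroup.map_lt_map_iff_of_injective (MulAut.conj m).injective).2 hJ.1
      · conv_rhs => rw [← hN ‹U.Normal›]
        exact Subgroup.map_mono hJ.2.1
      · conv_lhs => rw [← hN ‹N.Normal›]
        exact (Subgroup.map_mono hJ.2.2).trans (Subgroup.le_normalizer_map _)
    refine ⟨hmem n hI.1, fun J hJ hle => le_antisymm hle ?_⟩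
    have h1 := hI.2 (J.map (MulAut.conj n⁻¹).toMonoidHom) (hmem n⁻¹ hJ) (by
      rintro _ ⟨y, hy, rfl⟩
      obtain ⟨z, hz, rfl⟩ := hle hy
      show n⁻¹ * (n * z * n⁻¹) * n⁻¹⁻¹ ∈ I
      rwa [show n⁻¹ * (n * z * n⁻¹) * n⁻¹⁻¹ = z by group])
    rintro _ ⟨z, hz, rfl⟩
    obtain ⟨y, hy, hyz⟩ := h1.ge hz
    have : y = n * z * n⁻¹ := by
      rw [← hyz]; show y = n * (n⁻¹ * y * n⁻¹⁻¹) * n⁻¹; group
    show n * z * n⁻¹ ∈ J
    rwa [← this]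
  have hsle : sSup 𝓘 ≤ U := sSup_le fun I hI => hI.1.2.1
  have hVs : V ≤ sSup 𝓘 := hI₀'.1.1.le.trans (le_sSup hI₀')
  have hsU : sSup 𝓘 = U := by
    rcases hchief _ hsN hVs hsle with h | h
    · exact absurd (lt_of_lt_of_le hI₀'.1.1 ((le_sSup hI₀').trans h.le)) (lt_irrefl V)
    · exact h
  -- the key step
  have key : ∀ I ∈ 𝓘, ∀ I' ∈ 𝓘, ∀ u ∈ I, ∀ w ∈ I', ⁅g, ⁅u, w⁆⁆ = 1 := by
    intro I hI I' hI'
    by_contra hne
    push Not at hne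
    obtain ⟨u₁, hu₁, w₁, hw₁, hne⟩ := hne
    have hIU := hI.1.2.1
    have hI'U := hI'.1.2.1
    have hgI : ∀ {J : Subgroup G}, J ∈ 𝓘 → ∀ x ∈ J, ⁅g, x⁆ ∈ J := fun {J} hJ x hx => by
      rw [commutatorElement_def]
      exact mul_mem ((Subgroup.mem_normalizer_iff.1 (hJ.1.2.2 hg) x).1 hx) (inv_mem hx)
    have kerL : ∀ x ∈ I, (∀ w ∈ I', ⁅g, ⁅x, w⁆⁆ = 1) → x ∈ V := by
      let K : Subgroup G :=
        { carrier := {x | x ∈ I ∧ ∀ w ∈ I', ⁅g, ⁅x, w⁆⁆ = 1}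
          one_mem' := ⟨one_mem _, fun w _ => by simp⟩
          mul_mem' := fun {a b} ha hb => ⟨mul_mem ha.1 hb.1, fun w hw => by
            rw [γl a (hIU ha.1) b (hIU hb.1) w (hI'U hw), ha.2 w hw, hb.2 w hw, one_mul]⟩
          inv_mem' := fun {a} ha => ⟨inv_mem ha.1, fun w hw => by
            have := γl a⁻¹ (inv_mem (hIU ha.1)) a (hIU ha.1) w (hI'U hw)
            rw [inv_mul_cancel, commutatorElement_one_left, commutatorElement_one_right, ha.2 w hw,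
              mul_one] at this
            exact this.symm⟩ }
      have hVK : V ≤ K := fun v hv => ⟨hI.1.1.le hv, fun w hw => by
        rw [hVz v hv w (hI'U hw), commutatorElement_one_right]⟩
      intro x hx hxw
      by_contra hxV
      have h1 := hI.2 K ⟨lt_of_le_of_ne hVK fun e => hxV (e.ge ⟨hx, hxw⟩), fun y hy => hIU hy.1,
        Subgroup.le_normalizer_iff.2 fun n hn y hy => ⟨(Subgroup.mem_normalizer_iff.1 (hI.1.2.2 hn) y).1 hy.1,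
          fun w hw => by
            have hw' : n⁻¹ * w * n ∈ I' := by
              simpa using (Subgroup.mem_normalizer_iff.1 (hI'.1.2.2 (inv_mem hn)) w).1 hw
            rw [show w = n * (n⁻¹ * w * n) * n⁻¹ by group,
              γinv n hn y (hIU hy.1) _ (hI'U hw')]
            exact hy.2 _ hw'⟩⟩ fun y hy => hy.1
      exact hne ((h1.ge hu₁).2 w₁ hw₁)
    have kerR : ∀ x ∈ I', (∀ w ∈ I, ⁅g, ⁅w, x⁆⁆ = 1) → x ∈ V := by
      let K : Subgroup G :=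
        { carrier := {x | x ∈ I' ∧ ∀ w ∈ I, ⁅g, ⁅w, x⁆⁆ = 1}
          one_mem' := ⟨one_mem _, fun w _ => by simp⟩
          mul_mem' := fun {a b} ha hb => ⟨mul_mem ha.1 hb.1, fun w hw => by
            rw [γr w (hIU hw) a (hI'U ha.1) b (hI'U hb.1), ha.2 w hw, hb.2 w hw, one_mul]⟩
          inv_mem' := fun {a} ha => ⟨inv_mem ha.1, fun w hw => by
            have := γr w (hIU hw) a⁻¹ (inv_mem (hI'U ha.1)) a (hI'U ha.1)
            rw [inv_mul_cancel, commutatorElement_one_right, commutatorElement_one_right, ha.2 w hw,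
              mul_one] at this
            exact this.symm⟩ }
      have hVK : V ≤ K := fun v hv => ⟨hI'.1.1.le hv, fun w hw => by
        rw [hVz' v hv w (hIU hw), commutatorElement_one_right]⟩
      intro x hx hxw
      by_contra hxV
      have h1 := hI'.2 K ⟨lt_of_le_of_ne hVK fun e => hxV (e.ge ⟨hx, hxw⟩), fun y hy => hI'U hy.1,
        Subgroup.le_normalizer_iff.2 fun n hn y hy => ⟨(Subgroup.mem_normalizer_iff.1 (hI'.1.2.2 hn) y).1 hy.1,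
          fun w hw => by
            have hw' : n⁻¹ * w * n ∈ I := by
              simpa using (Subgroup.mem_normalizer_iff.1 (hI.1.2.2 (inv_mem hn)) w).1 hw
            rw [show w = n * (n⁻¹ * w * n) * n⁻¹ by group,
              γinv n hn _ (hIU hw') y (hI'U hy.1)]
            exact hy.2 _ hw'⟩⟩ fun y hy => hy.1
      exact hne ((h1.ge hw₁).2 u₁ hu₁)
    -- quadratic on both pieces
    have hfix2 : ∀ u ∈ U, ∀ w ∈ U, ⁅g, ⁅⁅g, ⁅g, u⁆⁆, w⁆⁆ = 1 := fun u hu w hw => by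
      have hx : ⁅g, ⁅g, u⁆⁆ ∈ U := hgU _ (hgU u hu)
      rw [commutatorElement_def g, ← conj_comm, conj_eq_mul g ⁅g, ⁅g, u⁆⁆, h3 u hu, one_mul, conj_eq_mul g w,
        hr _ hx _ (hgU w hw) _ hw, h21 u hu w hw, one_mul, mul_inv_cancel]
    have q1 : ∀ u ∈ I, ⁅g, ⁅g, u⁆⁆ ∈ V := fun u hu =>
      kerL _ (hgI hI _ (hgI hI u hu)) fun w hw => hfix2 u (hIU hu) w (hI'U hw)
    have q2 : ∀ w ∈ I', ⁅g, ⁅g, w⁆⁆ ∈ V := fun w hw =>
      kerR _ (hgI hI' _ (hgI hI' w hw)) fun u hu => by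
        have h := hfix2 w (hI'U hw) u (hIU hu)
        rw [show ⁅u, ⁅g, ⁅g, w⁆⁆⁆ = ⁅⁅g, ⁅g, w⁆⁆, u⁆⁻¹ by simp]
        rw [commutatorElement_eq_one_iff_mul_comm] at h ⊢
        exact (Commute.inv_right h).eq
    -- the two mixed terms agree
    have e1 : ∀ u ∈ I, ∀ w ∈ I', ⁅g, ⁅⁅g, u⁆, w⁆⁆ = ⁅⁅g, u⁆, ⁅g, w⁆⁆ := fun u hu w hw => by
      have hu' := hgU u (hIU hu)
      have hw' := hgU w (hI'U hw)
      rw [commutatorElement_def g ⁅⁅g, u⁆, w⁆, ← conj_comm, conj_eq_mul g ⁅g, u⁆, conj_eq_mul g w,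
        hl _ (hVlt.le (q1 u hu)) _ hu' _ (mul_mem hw' (hI'U hw)), hVz _ (q1 u hu) _ (mul_mem hw' (hI'U hw)),
        one_mul, hr _ hu' _ hw' _ (hI'U hw), mul_inv_cancel_right]
    have e2 : ∀ u ∈ I, ∀ w ∈ I', ⁅g, ⁅u, ⁅g, w⁆⁆⁆ = ⁅⁅g, u⁆, ⁅g, w⁆⁆ := fun u hu w hw => by
      have hu' := hgU u (hIU hu)
      have hw' := hgU w (hI'U hw)
      rw [commutatorElement_def g ⁅u, ⁅g, w⁆⁆, ← conj_comm, conj_eq_mul g ⁅g, w⁆, conj_eq_mul g u,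
        hr _ (mul_mem hu' (hIU hu)) _ (hVlt.le (q2 w hw)) _ hw', hVz' _ (q2 w hw) _ (mul_mem hu' (hIU hu)),
        one_mul, hl _ hu' _ (hIU hu) _ hw', mul_inv_cancel_right]
    have δ1 : ∀ u ∈ I, ∀ w ∈ I', ⁅⁅g, u⁆, ⁅g, w⁆⁆ = 1 := fun u hu w hw => by
      have hu0 := hIU hu
      have hw0 := hI'U hw
      have hu' := hgU u hu0
      have hw' := hgU w hw0
      set δ := ⁅⁅g, u⁆, ⁅g, w⁆⁆
      have hz : ⁅g, δ⁆ = 1 := (e2 ⁅g, u⁆ (hgI hI u hu) w hw).trans (hVz _ (q1 u hu) _ hw')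
      have h1 := γinv g hg u hu0 w hw0
      rw [conj_eq_mul, conj_eq_mul, γl _ hu' _ hu0 _ (mul_mem hw' hw0), γr _ hu' _ hw' _ hw0,
        γr _ hu0 _ hw' _ hw0, hz, e1 u hu w hw, e2 u hu w hw, one_mul, ← mul_assoc] at h1
      have h2 : δ * δ = 1 := mul_eq_right.1 h1
      obtain ⟨k, hk⟩ := hU ⟨δ, hcU _ hu' _ hw'⟩
      exact orderOf_eq_one_iff.1 (Nat.Coprime.eq_one_of_dvd
        (((Nat.coprime_primes Nat.prime_two hp'.out).2 (Ne.symm hp)).pow_right k |>.coprime_dvd_left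
          (orderOf_dvd_of_pow_eq_one (n := 2) (by rw [pow_two, h2])))
        (orderOf_dvd_of_pow_eq_one (by simpa using congrArg Subtype.val hk)))
    have c1 : ∀ u ∈ I, ⁅g, u⁆ ∈ V := fun u hu => kerL _ (hgI hI u hu) fun w hw => by
      rw [e1 u hu w hw, δ1 u hu w hw]
    have c2 : ∀ w ∈ I', ⁅g, w⁆ ∈ V := fun w hw => kerR _ (hgI hI' w hw) fun u hu => by
      rw [e2 u hu w hw, δ1 u hu w hw]
    refine hne ?_
    rw [commutatorElement_def g, ← conj_comm, conj_eq_mul g u₁, conj_eq_mul g w₁,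
      hl _ (hVlt.le (c1 u₁ hu₁)) _ (hIU hu₁) _ (mul_mem (hVlt.le (c2 w₁ hw₁)) (hI'U hw₁)),
      hVz _ (c1 u₁ hu₁) _ (mul_mem (hVlt.le (c2 w₁ hw₁)) (hI'U hw₁)), one_mul,
      hr _ (hIU hu₁) _ (hVlt.le (c2 w₁ hw₁)) _ (hI'U hw₁), hVz' _ (c2 w₁ hw₁) _ (hIU hu₁), one_mul,
      mul_inv_cancel]
  -- spread over `U`
  intro u hu w hw
  rw [← hsU, sSup_eq_iSup'] at hu hw
  have hmemU : ∀ {x : G}, x ∈ (⨆ I : 𝓘, (I : Subgroup G)) → x ∈ U := fun {x} hx =>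
    hsle (by rwa [sSup_eq_iSup'])
  induction hu using Subgroup.iSup_induction' with
  | hp I x hx =>
    induction hw using Subgroup.iSup_induction' with
    | hp I' y hy => exact key I I.2 I' I'.2 x hx y hy
    | h1 => simp
    | hmul a b ha hb iha ihb => rw [γr x (I.2.1.2.1 hx) a (hmemU ha) b (hmemU hb), iha, ihb, one_mul]
  | h1 => simp
  | hmul a b ha hb iha ihb => rw [γl a (hmemU ha) b (hmemU hb) w (hmemU hw), iha, ihb, one_mul]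

end CfsgLib.KInf
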