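import Cfsg.Agent.Lib.KInf.Basic
import Cfsg.Agent.Lib.KInf.Pairing
import Cfsg.Agent.Lib.CharP

/-!
If a K-infinity subgroup of a Sylow subgroup is not normal, an element outside `O_p` acts cubically on a critical
subgroup and quadratically, nontrivially on a chief factor inside it.
-/

set_option autoImplicit false
set_option linter.unusedSectionVars false

namespace CfsgLib.KInf

open CfsgLib Cfsg CfsgLib.Stabilizer
open scoped commutatorElement

universe u

variable {G : Type u} [Group G]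

theorem iterCommutator_normal {W N : Subgroup G} [W.Normal] [N.Normal] (k : ℕ) : (iterCommutator W N k).Normal := by
  induction k with
  | zero => assumption
  | succ k ih => haveI := ih; exact Subgroup.commutator_normal _ _

theorem iterCommutator_antitone {W N : Subgroup G} [W.Normal] [N.Normal] : Antitone (iterCommutator W N) :=
  antitone_nat_of_succ_le fun k => by
    haveI := iterCommutator_normal (W := W) (N := N) k
    exact Subgroup.commutator_le_left _ _

theorem le_iff_map_eq_bot {V : Subgroup G} [V.Normal] {X : Subgroup G} :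
    X ≤ V ↔ X.map (QuotientGroup.mk' V) = ⊥ := by
  rw [Subgroup.map_eq_bot_iff, QuotientGroup.ker_mk']

/-- Either the descending commutator series reaches the bottom or some piece is reproduced. -/
theorem nilpotent_or_stable [Finite G] (W N : Subgroup G) [W.Normal] [N.Normal] :
    (∃ k, iterCommutator W N k = ⊥) ∨ ∃ D : Subgroup G, D.Normal ∧ D ≤ W ∧ D ≠ ⊥ ∧ ⁅D, N⁆ = D := by
  obtain ⟨a, ha⟩ := WellFoundedGT.monotone_chain_condition
    ⟨fun n => OrderDual.toDual (iterCommutator W N n), fun _ _ h => iterCommutator_antitone h⟩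
  by_cases h : iterCommutator W N a = ⊥
  · exact .inl ⟨a, h⟩
  · exact .inr ⟨_, iterCommutator_normal a, iterCommutator_antitone (Nat.zero_le a), h,
      (OrderDual.toDual.injective (ha (a + 1) (Nat.le_succ a))).symm⟩

/-- A minimal reproduced piece. -/
theorem exists_stable [Finite G] (A N : Subgroup G) [A.Normal] [N.Normal] (h : ¬ ∃ k, iterCommutator A N k = ⊥) :
    ∃ U : Subgroup G, U.Normal ∧ U ≤ A ∧ U ≠ ⊥ ∧ ⁅U, N⁆ = U ∧
      ∀ W : Subgroup G, W.Normal → W < U → ∃ k, iterCommutator W N k = ⊥ := by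
  set 𝒟 := {D : Subgroup G | D.Normal ∧ D ≤ A ∧ D ≠ ⊥ ∧ ⁅D, N⁆ = D}
  obtain ⟨D₀, h0⟩ := (nilpotent_or_stable A N).resolve_left h
  obtain ⟨U, hU⟩ := (Set.toFinite 𝒟).exists_minimal ⟨D₀, h0⟩
  obtain ⟨hUn, hUA, hU0, hUs⟩ := hU.prop
  refine ⟨U, hUn, hUA, hU0, hUs, fun W hW hWU => ?_⟩
  haveI := hW
  refine (nilpotent_or_stable W N).resolve_right ?_
  rintro ⟨D, hD1, hD2, hD3, hD4⟩
  exact hWU.not_ge ((hU.2 ⟨hD1, hD2.trans (hWU.le.trans hUA), hD3, hD4⟩ (hD2.trans hWU.le)).trans hD2)

theorem exists_chief_between [Finite G] {U W : Subgroup G} [U.Normal] [W.Normal] (h : W < U) :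
    ∃ V : Subgroup G, W ≤ V ∧ IsChiefFactor U V := by
  obtain ⟨V, hV⟩ := (Set.toFinite {V : Subgroup G | V.Normal ∧ W ≤ V ∧ V < U}).exists_maximal ⟨W, ‹_›, le_rfl, h⟩
  refine ⟨V, hV.prop.2.1, hV.prop.2.2, ‹_›, hV.prop.1, fun M hM hVM hMU => ?_⟩
  rcases hMU.lt_or_eq with h | h
  · exact .inl (le_antisymm (hV.2 ⟨hM, hV.prop.2.1.trans hVM, h⟩ hVM) hVM)
  · exact .inr h

theorem normalClosure_le_centralizer {B M : Subgroup G} [M.Normal] (h : B ≤ Subgroup.centralizer (M : Set G)) :
    Subgroup.normalClosure (B : Set G) ≤ Subgroup.centralizer (M : Set G) :=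
  Subgroup.normalClosure_le_normal h

theorem commutator_normalClosure_le {B U V : Subgroup G} [U.Normal] [V.Normal] (h : ⁅U, B⁆ ≤ V) :
    ⁅U, Subgroup.normalClosure (B : Set G)⁆ ≤ V := by
  set π := QuotientGroup.mk' V
  haveI : (U.map π).Normal := Subgroup.Normal.map inferInstance π (QuotientGroup.mk'_surjective V)
  have h1 : ∀ X : Subgroup G, ⁅U, X⁆ ≤ V ↔ X ≤ (Subgroup.centralizer (U.map π : Set (G ⧸ V))).comap π := fun X => by
    rw [le_iff_map_eq_bot, Subgroup.map_commutator,
      Subgroup.commutator_comm, Subgroup.commutator_eq_bot_iff_le_centralizer, Subgroup.map_le_iff_le_comap]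
  exact (h1 _).2 (Subgroup.normalClosure_le_normal ((h1 B).1 h))

theorem exists_mem_not_le {B U V : Subgroup G} (h : ¬ ⁅U, B⁆ ≤ V) :
    ∃ g ∈ B, ¬ ⁅U, Subgroup.zpowers g⁆ ≤ V := by
  by_contra hc
  push Not at hc
  exact h (Subgroup.commutator_le.2 fun u hu b hb =>
    hc b hb (Subgroup.commutator_mem_commutator hu (Subgroup.mem_zpowers b)))

theorem iterCommutator_mono_right (A : Subgroup G) {B C : Subgroup G} (h : B ≤ C) (k : ℕ) :
    iterCommutator A B k ≤ iterCommutator A C k := by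
  induction k with
  | zero => exact le_rfl
  | succ k ih => exact Subgroup.commutator_mono ih h

section setup

variable [Finite G] {p : ℕ} [hp : Fact p.Prime] {T A : Subgroup G}

/-- A normal subgroup acting nilpotently on `A` lies in `T`. -/
theorem le_of_nilpotent [T.Normal] (hT : T = pCore p G) (hAT : A ≤ T)
    (hA5 : ∀ φ : MulAut ↥T, (orderOf φ).Coprime p → (∀ a : ↥T, (a : G) ∈ A → φ a = a) → φ = 1)
    (hcon : Subgroup.centralizer (T : Set G) ≤ T) {N : Subgroup G} [N.Normal] (hTp : IsPGroup p T)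
    (hnil : ∃ k, iterCommutator A N k = ⊥) : N ≤ T := by
  obtain ⟨k, hk⟩ := hnil
  subst hT
  refine le_pCore (isPGroup_of_coprime_trivial N fun x hx hcop => ?_)
  have hA : ∀ j ≤ k, ∀ a ∈ iterCommutator A N (k - j), x * a = a * x := by
    intro j
    induction j with
    | zero =>
      intro _ a ha
      rw [Nat.sub_zero, hk, Subgroup.mem_bot] at ha
      simp [ha]
    | succ j ih =>
      intro hj a ha
      have hc : ⁅x, a⁆ ∈ iterCommutator A N (k - j) := by
        rw [show k - j = (k - (j + 1)) + 1 by omega]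
        rw [show ⁅x, a⁆ = ⁅a, x⁆⁻¹ by simp]
        exact inv_mem (Subgroup.commutator_mem_commutator ha hx)
      have hcT : ⁅x, a⁆ ∈ pCore p G := by
        have hle : ∀ i, iterCommutator A N i ≤ pCore p G := by
          intro i
          induction i with
          | zero => exact hAT
          | succ i ihi => exact (Subgroup.commutator_mono ihi le_rfl).trans (Subgroup.commutator_le_left _ _)
        exact hle _ hc
      obtain ⟨m, hm⟩ := hTp ⟨_, hcT⟩
      have h1 := coprime_step (x := x) (r := a) (c := ⁅x, a⁆) (p := p) hcop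
        ⟨m, congrArg Subtype.val hm⟩ (by simp only [commutatorElement_def]; group) (ih (by omega) _ hc)
      exact commutatorElement_eq_one_iff_mul_comm.1 h1
  have h0 : ∀ a ∈ A, x * a = a * x := fun a ha => hA k le_rfl a (by rw [Nat.sub_self]; exact ha)
  have h1 := hA5 (MulAut.conjNormal x) (Nat.Coprime.coprime_dvd_left (orderOf_map_dvd _ x) hcop) fun a ha =>
    Subtype.ext (by rw [MulAut.conjNormal_apply, h0 _ ha, mul_inv_cancel_right])
  refine CharP.eq_one_of_centralizes_pCore hcon hcop fun r hr => ?_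
  have h2 := congrArg Subtype.val (DFunLike.congr_fun h1 ⟨r, hr⟩)
  rw [MulAut.conjNormal_apply] at h2
  exact mul_inv_eq_iff_eq_mul.1 h2

/-- The conclusion wanted. -/
def Witness (p : ℕ) (S T A : Subgroup G) : Prop :=
  ∃ g : G, g ∈ S ∧ g ∉ T ∧ iterCommutator A (Subgroup.zpowers g) 3 ≤ A ⊓ Subgroup.centralizer (A : Set G) ∧
    ⁅⁅A ⊓ Subgroup.centralizer (A : Set G), Subgroup.zpowers g⁆, Subgroup.zpowers g⁆ = ⊥ ∧
      (Subgroup.centralizer (T : Set G) ≤ T → ∃ U V : Subgroup G, IsChiefFactor U V ∧ U ≤ A ∧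
        ⁅⁅U, Subgroup.zpowers g⁆, Subgroup.zpowers g⁆ ≤ V ∧ ¬ ⁅U, Subgroup.zpowers g⁆ ≤ V)

theorem not_mem_of_acts [T.Normal] (hT : IsPGroup p T) {U V : Subgroup G} (hUV : IsChiefFactor U V) (hUT : U ≤ T)
    {g : G} (hg : ¬ ⁅U, Subgroup.zpowers g⁆ ≤ V) : g ∉ T := fun h => hg <| by
  obtain ⟨hlt, hUn, hVn, hchief⟩ := hUV
  refine le_trans (Subgroup.commutator_mono le_rfl (Subgroup.zpowers_le.2 h)) ?_
  rcases hchief (V ⊔ ⁅U, T⁆) (Subgroup.sup_normal _ _) le_sup_left
    (sup_le hlt.le (Subgroup.commutator_le_left _ _)) with e | e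
  · exact sup_eq_left.1 e
  · exfalso
    have hle : ∀ k, U ≤ V ⊔ iterCommutator U T k := by
      intro k
      induction k with
      | zero => exact le_sup_right
      | succ k ih =>
        haveI := iterCommutator_normal (W := U) (N := T) k
        refine e.ge.trans (sup_le le_sup_left ?_)
        set π := QuotientGroup.mk' V
        have h1 : U.map π ≤ (iterCommutator U T k).map π := (Subgroup.map_mono ih).trans (by
          rw [Subgroup.map_sup]; exact sup_le (by simp [π]) le_rfl)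
        have h2 : (⁅U, T⁆).map π ≤ (iterCommutator U T (k + 1)).map π := by
          show _ ≤ (⁅iterCommutator U T k, T⁆).map π
          rw [Subgroup.map_commutator, Subgroup.map_commutator]
          exact Subgroup.commutator_mono h1 le_rfl
        rw [sup_comm]
        have h3 := Subgroup.map_le_iff_le_comap.1 h2
        rwa [Subgroup.comap_map_eq, QuotientGroup.ker_mk'] at h3
    haveI := hT.isNilpotent
    obtain ⟨n, hn⟩ := (Subgroup.isNilpotent_iff_lowerCentralSeries T).1 (inferInstance : Group.IsNilpotent T)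
    have hlc : ∀ k, iterCommutator U T k ≤ T.lowerCentralSeries k := by
      intro k
      induction k with
      | zero => exact hUT
      | succ k ih => exact Subgroup.commutator_mono ih le_rfl
    exact hlt.not_ge ((hle n).trans (sup_le le_rfl (((hlc n).trans hn.le).trans bot_le)))

/-- A subgroup `B` acting as required gives a witness. -/
theorem witness_of_quadratic [T.Normal] [A.Normal] (hT : T = pCore p G) (hTp : IsPGroup p T) (hAT : A ≤ T)
    (hA5 : ∀ φ : MulAut ↥T, (orderOf φ).Coprime p → (∀ a : ↥T, (a : G) ∈ A → φ a = a) → φ = 1)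
    {S B : Subgroup G} (hBS : B ≤ S) (hBT : ¬ B ≤ T)
    (hcub : iterCommutator A B 3 ≤ A ⊓ Subgroup.centralizer (A : Set G))
    (hZ : ⁅⁅A ⊓ Subgroup.centralizer (A : Set G), B⁆, B⁆ = ⊥)
    (hquad : ∀ U : Subgroup G, U.Normal → U ≤ A → U ≠ ⊥ → ⁅U, Subgroup.normalClosure (B : Set G)⁆ = U →
      (∀ W : Subgroup G, W.Normal → W < U → ∃ k, iterCommutator W (Subgroup.normalClosure (B : Set G)) k = ⊥) →
      ∃ g ∈ B, ∃ V : Subgroup G, IsChiefFactor U V ∧
        ⁅⁅U, Subgroup.zpowers g⁆, Subgroup.zpowers g⁆ ≤ V ∧ ¬ ⁅U, Subgroup.zpowers g⁆ ≤ V) :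
    Witness p S T A := by
  have hmk : ∀ g ∈ B, g ∉ T → (Subgroup.centralizer (T : Set G) ≤ T → ∃ U V : Subgroup G, IsChiefFactor U V ∧ U ≤ A ∧
        ⁅⁅U, Subgroup.zpowers g⁆, Subgroup.zpowers g⁆ ≤ V ∧ ¬ ⁅U, Subgroup.zpowers g⁆ ≤ V) → Witness p S T A :=
    fun g hg hgT h => ⟨g, hBS hg, hgT, (iterCommutator_mono_right A (Subgroup.zpowers_le.2 hg) 3).trans hcub,
      le_bot_iff.1 ((Subgroup.commutator_mono (Subgroup.commutator_mono le_rfl (Subgroup.zpowers_le.2 hg))
        (Subgroup.zpowers_le.2 hg)).trans hZ.le), h⟩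
  by_cases hcon : Subgroup.centralizer (T : Set G) ≤ T
  · have hnn : ¬ ∃ k, iterCommutator A (Subgroup.normalClosure (B : Set G)) k = ⊥ := fun h =>
      hBT (Subgroup.le_normalClosure.trans (le_of_nilpotent hT hAT hA5 hcon hTp h))
    obtain ⟨U, hUn, hUA, hU0, hUs, hUmin⟩ := exists_stable A _ hnn
    obtain ⟨g, hg, V, hUV, h1, h2⟩ := hquad U hUn hUA hU0 hUs hUmin
    exact hmk g hg (not_mem_of_acts hTp hUV (hUA.trans hAT) h2) fun _ => ⟨U, V, hUV, hUA, h1, h2⟩
  · obtain ⟨g, hg, hgT⟩ := SetLike.not_le_iff_exists.1 hBT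
    exact hmk g hg hgT fun h => absurd h hcon

/-- When the double commutator lands in a proper normal subgroup, a quadratic factor exists. -/
theorem factor_of_double {B U W : Subgroup G} [U.Normal] [W.Normal]
    (hW : W < U) (hq : ⁅⁅U, B⁆, B⁆ ≤ W) (hs : ⁅U, Subgroup.normalClosure (B : Set G)⁆ = U) :
    ∃ g ∈ B, ∃ V : Subgroup G, IsChiefFactor U V ∧
      ⁅⁅U, Subgroup.zpowers g⁆, Subgroup.zpowers g⁆ ≤ V ∧ ¬ ⁅U, Subgroup.zpowers g⁆ ≤ V := by
  obtain ⟨V, hWV, hUV⟩ := exists_chief_between hW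
  haveI := hUV.2.2.1
  obtain ⟨g, hg, hgV⟩ := exists_mem_not_le (B := B) (U := U) (V := V)
    fun h => hUV.1.not_ge (hs.ge.trans (commutator_normalClosure_le h))
  have hgB := Subgroup.zpowers_le.2 hg
  exact ⟨g, hg, V, hUV, ((Subgroup.commutator_mono (Subgroup.commutator_mono le_rfl hgB) hgB).trans hq).trans hWV,
    hgV⟩

theorem derived_lt {U : Subgroup G} (hU : IsPGroup p U) (h0 : U ≠ ⊥) : ⁅U, U⁆ < U := by
  refine lt_of_le_of_ne (Subgroup.commutator_le_self U) fun e => h0 ?_
  haveI := hU.isNilpotent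
  obtain ⟨n, hn⟩ := (Subgroup.isNilpotent_iff_lowerCentralSeries U).1 (inferInstance : Group.IsNilpotent U)
  have : ∀ k, U ≤ U.lowerCentralSeries k := by
    intro k
    induction k with
    | zero => exact le_rfl
    | succ k ih => exact e.ge.trans (Subgroup.commutator_mono ih le_rfl)
  exact le_bot_iff.1 ((this n).trans hn.le)

variable (p) in
/-- Structural facts about the critical subgroup. -/
structure Crit (T A : Subgroup G) : Prop where
  le : A ≤ T
  pGroup : IsPGroup p T
  normalT : T.Normal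
  normal : A.Normal
  two : ⁅A, A⁆ ≤ Subgroup.centralizer (A : Set G)
  three : ⁅T, A⁆ ≤ A ⊓ Subgroup.centralizer (A : Set G)
  core : T = pCore p G
  aut : ∀ φ : MulAut ↥T, (orderOf φ).Coprime p → (∀ a : ↥T, (a : G) ∈ A → φ a = a) → φ = 1

theorem witness_lower_outside (hc : Crit p T A) {S : Subgroup G} (hA : A ∉ kLowerStarFamily S) :
    Witness p S T A := by
  haveI := hc.normalT
  haveI := hc.normal
  set Z := A ⊓ Subgroup.centralizer (A : Set G) with hZdef
  haveI : Z.Normal := inferInstanceAs (A ⊓ Subgroup.centralizer (A : Set G)).Normal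
  have hex : ∃ X ∈ classTwoSubgroups G, X ≤ S ∧ A ≤ Subgroup.normalizer (X : Set G) ∧
      ⁅A, ⁅X, X⁆⁆ = ⊥ ∧ ⁅⁅Z, X⁆, X⁆ = ⊥ ∧ ¬ ⁅A, X⁆ ≤ Z := by
    by_contra hcn
    push Not at hcn
    exact hA ⟨hc.two, le_top.trans (Subgroup.normalizer_eq_top A).ge,
      fun X hX hXS hAX h1 h2 => hcn X hX hXS hAX h1 h2⟩
  obtain ⟨X, hX, hXS, hAX, h1, h2, h3⟩ := hex
  have hXT : ¬ X ≤ T := fun h => h3 (by
    rw [Subgroup.commutator_comm]; exact (Subgroup.commutator_mono h le_rfl).trans hc.three)
  have hq : ⁅⁅A, X⁆, X⁆ ≤ Z := le_inf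
    ((Subgroup.commutator_mono (Subgroup.commutator_le_left _ _) le_rfl).trans (Subgroup.commutator_le_left _ _))
    ((Subgroup.commutator_mono ((Subgroup.commutator_comm A X).le.trans (commutator_le_left_of_normalizes hAX))
      le_rfl).trans (Subgroup.commutator_eq_bot_iff_le_centralizer.1
        ((Subgroup.commutator_comm _ A).trans h1)))
  refine witness_of_quadratic hc.core hc.pGroup hc.le hc.aut hXS hXT
    ((Subgroup.commutator_mono hq le_rfl).trans (Subgroup.commutator_le_left Z X)) h2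
    fun U hUn hUA hU0 hUs _ => ?_
  by_cases hUZ : U ≤ Z
  · exact factor_of_double (W := ⊥) (bot_lt_iff_ne_bot.2 hU0)
      (((Subgroup.commutator_mono (Subgroup.commutator_mono hUZ le_rfl) le_rfl).trans h2.le)) hUs
  · exact factor_of_double (W := U ⊓ Z) (lt_of_le_of_ne inf_le_left fun e => hUZ (inf_eq_left.1 e))
      (le_inf ((Subgroup.commutator_mono (Subgroup.commutator_le_left _ _) le_rfl).trans
        (Subgroup.commutator_le_left _ _))
        ((Subgroup.commutator_mono (Subgroup.commutator_mono hUA le_rfl) le_rfl).trans hq)) hUs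

theorem witness_of_killed (hc : Crit p T A) {S B : Subgroup G} (hBS : B ≤ S) (hBT : ¬ B ≤ T)
    (h : ⁅⁅A, B⁆, B⁆ = ⊥) : Witness p S T A := by
  haveI := hc.normalT
  haveI := hc.normal
  refine witness_of_quadratic hc.core hc.pGroup hc.le hc.aut hBS hBT ?_
    (le_bot_iff.1 ((Subgroup.commutator_mono (Subgroup.commutator_mono inf_le_left le_rfl) le_rfl).trans h.le))
    fun U hUn hUA hU0 hUs _ => factor_of_double (W := ⊥) (bot_lt_iff_ne_bot.2 hU0)
      ((Subgroup.commutator_mono (Subgroup.commutator_mono hUA le_rfl) le_rfl).trans h.le) hUs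
  show ⁅⁅⁅A, B⁆, B⁆, B⁆ ≤ _
  rw [h]; simp

theorem witness_upper (hc : Crit p T A) {S B E : Subgroup G} (hBS : B ≤ S) (hBT : ¬ B ≤ T)
    (hB : B ∈ kUpperStarFamily E) (hAE : A ≤ E) : Witness p S T A := by
  refine witness_of_killed hc hBS hBT (le_bot_iff.1 ?_)
  refine (Subgroup.commutator_mono ((Subgroup.commutator_comm A B).le.trans
    ((Subgroup.commutator_mono le_rfl hAE).trans hB.2)) le_rfl).trans ?_
  exact le_bot_iff.2 (Subgroup.commutator_eq_bot_iff_le_centralizer.2 inf_le_right)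

/-- If the commutators with all of `U` land in a normal subgroup `M` killed by the action, they vanish. -/
theorem commutator_step {U N W D : Subgroup G} [U.Normal] [N.Normal] [W.Normal] [D.Normal] (hUs : ⁅U, N⁆ = U)
    (hWU : W ≤ U) (hWN : ⁅⁅W, U⁆, N⁆ ≤ D) (hnext : ⁅⁅W, N⁆, U⁆ ≤ D) : ⁅W, U⁆ ≤ D := by
  have hn : ∀ X : Subgroup G, X ≤ Subgroup.normalizer (D : Set G) := fun X =>
    le_top.trans (Subgroup.normalizer_eq_top D).ge
  have h := commutator_commutator_le_of_rotate (hn U) (hn N) (hn W)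
    (by rwa [Subgroup.commutator_comm N W]) hWN
  rw [hUs, Subgroup.commutator_comm] at h
  exact h

theorem commutator_eq_bot_of_nilpotent {U N V : Subgroup G} [U.Normal] [N.Normal] [V.Normal]
    (hUs : ⁅U, N⁆ = U) (hVU : V ≤ U) (hNN : ⁅⁅⁅U, U⁆, N⁆, N⁆ = ⊥)
    (hnil : ∃ k, iterCommutator V N k = ⊥) : ⁅V, U⁆ = ⊥ := by
  obtain ⟨k, hk⟩ := hnil
  have hle : ∀ i, iterCommutator V N i ≤ U := fun i => (iterCommutator_antitone (Nat.zero_le i)).trans hVU
  have run : ∀ D : Subgroup G, D.Normal → (∀ i, ⁅⁅iterCommutator V N i, U⁆, N⁆ ≤ D) →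
      ∀ j ≤ k, ⁅iterCommutator V N (k - j), U⁆ ≤ D := by
    intro D hD hN j
    haveI := hD
    induction j with
    | zero =>
      intro _
      rw [Nat.sub_zero, hk]
      simp
    | succ j ih =>
      intro hj
      haveI := iterCommutator_normal (W := V) (N := N) (k - (j + 1))
      refine commutator_step hUs (hle _) (hN _) ?_
      have e : ⁅iterCommutator V N (k - (j + 1)), N⁆ = iterCommutator V N (k - j) := by
        rw [show k - j = (k - (j + 1)) + 1 by omega]; rfl
      rw [e]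
      exact ih (by omega)
  have s1 := fun i => Subgroup.commutator_mono
    (Subgroup.commutator_mono (hle i) (le_refl U)) (le_refl N)
  have r1 : ∀ i, ⁅iterCommutator V N i, U⁆ ≤ ⁅⁅U, U⁆, N⁆ := fun i => by
    rcases le_or_gt i k with h | h
    · have := run _ inferInstance s1 (k - i) (Nat.sub_le _ _)
      rwa [show k - (k - i) = i by omega] at this
    · rw [le_bot_iff.1 ((iterCommutator_antitone h.le).trans hk.le)]; simp
  have r2 := run ⊥ inferInstance (fun i => (Subgroup.commutator_mono (r1 i) le_rfl).trans hNN.le) k le_rfl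
  rw [Nat.sub_self] at r2
  exact le_bot_iff.1 r2

theorem iter_map {H : Type*} [Group H] (f : G →* H) (W N : Subgroup G) (k : ℕ) :
    (iterCommutator W N k).map f = iterCommutator (W.map f) (N.map f) k := by
  induction k with
  | zero => rfl
  | succ k ih =>
    show (⁅iterCommutator W N k, N⁆).map f = ⁅iterCommutator (W.map f) (N.map f) k, N.map f⁆
    rw [Subgroup.map_commutator, ih]

/-- In the main case the commutator subgroup of a minimal reproduced piece is centralized. -/
theorem derived_centralized (hodd : p ≠ 2) {B U : Subgroup G} [U.Normal] (hUp : IsPGroup p U) (hU0 : U ≠ ⊥)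
    (hU2 : ⁅U, U⁆ ≤ Subgroup.centralizer (U : Set G)) (hB2 : B ∈ classTwoSubgroups G)
    (hUB : U ≤ Subgroup.normalizer (B : Set G))
    (hUs : ⁅U, Subgroup.normalClosure (B : Set G)⁆ = U)
    (hmin : ∀ W : Subgroup G, W.Normal → W < U → ∃ k, iterCommutator W (Subgroup.normalClosure (B : Set G)) k = ⊥) :
    ⁅B, ⁅U, U⁆⁆ = ⊥ := by
  set N := Subgroup.normalClosure (B : Set G)
  suffices h : ⁅⁅U, U⁆, N⁆ = ⊥ by
    rw [Subgroup.commutator_comm]
    exact le_bot_iff.1 ((Subgroup.commutator_mono le_rfl Subgroup.le_normalClosure).trans h.le)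
  by_contra hne
  set M := ⁅⁅U, U⁆, N⁆ with hM
  obtain ⟨Y, hY⟩ := (Set.toFinite {Y : Subgroup G | Y.Normal ∧ Y ≤ ⁅U, U⁆ ∧ ¬ M ≤ Y}).exists_maximal
    ⟨⊥, inferInstance, bot_le, fun h => hne (le_bot_iff.1 h)⟩
  obtain ⟨hYn, hYU, hYM⟩ := hY.prop
  haveI := hYn
  have hsur := QuotientGroup.mk'_surjective Y
  set π := QuotientGroup.mk' Y
  obtain ⟨k, hk⟩ := hmin ⁅U, U⁆ inferInstance (derived_lt hUp hU0)
  have hNN : ⁅⁅⁅U.map π, U.map π⁆, N.map π⁆, N.map π⁆ = ⊥ := by
    rw [← Subgroup.map_commutator, ← Subgroup.map_commutator, ← Subgroup.map_commutator]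
    rw [Subgroup.map_eq_bot_iff, QuotientGroup.ker_mk']
    by_contra hMN
    have hbig : M ≤ Y ⊔ ⁅M, N⁆ := by
      by_contra hc
      exact hMN (le_trans le_sup_right (hY.2 ⟨Subgroup.sup_normal _ _, sup_le hYU
        ((Subgroup.commutator_le_left _ _).trans (Subgroup.commutator_le_left _ _)), hc⟩ le_sup_left))
    have h1 : M.map π ≤ ⁅M.map π, N.map π⁆ := by
      rw [← Subgroup.map_commutator]
      refine (Subgroup.map_mono hbig).trans ?_
      rw [Subgroup.map_sup]
      exact sup_le (by simp [π]) le_rfl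
    have h2 : ∀ j, M.map π ≤ iterCommutator (M.map π) (N.map π) j := by
      intro j
      induction j with
      | zero => exact le_rfl
      | succ j ih => exact h1.trans (Subgroup.commutator_mono ih le_rfl)
    have h3 : ∀ j, iterCommutator M N j ≤ iterCommutator ⁅U, U⁆ N j := by
      intro j
      induction j with
      | zero => exact Subgroup.commutator_le_left _ _
      | succ j ih => exact Subgroup.commutator_mono ih le_rfl
    have h4 := h2 k
    rw [← iter_map, le_bot_iff.1 ((h3 k).trans hk.le), Subgroup.map_bot, le_bot_iff, Subgroup.map_eq_bot_iff,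
      QuotientGroup.ker_mk'] at h4
    exact hYM h4
  have hdlt := derived_lt hUp hU0
  obtain ⟨V, hdV, hUV⟩ := exists_chief_between hdlt
  obtain ⟨hlt, -, hVn, hchief⟩ := hUV
  haveI := hVn
  haveI : (U.map π).Normal := Subgroup.Normal.map inferInstance π hsur
  haveI : (V.map π).Normal := Subgroup.Normal.map inferInstance π hsur
  haveI : (N.map π).Normal := Subgroup.Normal.map Subgroup.normalClosure_normal π hsur
  have hYV : Y ≤ V := hYU.trans hdV
  have hback : ∀ X : Subgroup G, (X.map π).comap π = X ⊔ Y := fun X => by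
    rw [Subgroup.comap_map_eq, QuotientGroup.ker_mk']
  obtain ⟨j, hj⟩ := hmin V hVn hlt
  have hVU : ⁅V.map π, U.map π⁆ = ⊥ := commutator_eq_bot_of_nilpotent (N := N.map π)
    (by rw [← Subgroup.map_commutator, hUs]) (Subgroup.map_mono hlt.le) hNN
    ⟨j, by rw [← iter_map, hj, Subgroup.map_bot]⟩
  refine hYM ?_
  have hcen : B.map π ≤ Subgroup.centralizer ((⁅U, U⁆).map π : Set (G ⧸ Y)) := by
    rintro _ ⟨b, hb, rfl⟩
    have hB' : ∀ u ∈ U, ⁅b, u⁆ ∈ B := fun u hu => by
      rw [show ⁅b, u⁆ = b * (u * b⁻¹ * u⁻¹) by simp only [commutatorElement_def]; group]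
      exact mul_mem hb ((Subgroup.mem_normalizer_iff.1 (hUB hu) _).1 (inv_mem hb))
    have hpair := pairing_centralized (p := p) hodd (N := N.map π) (U := U.map π) (V := V.map π) (g := π b)
      (hUp.map π) (by
        rw [← Subgroup.map_commutator]
        exact (Subgroup.map_mono hU2).trans ((Subgroup.map_centralizer_le_centralizer_image _ π).trans
          (le_of_eq (by rw [Subgroup.coe_map]))))
      hNN (by
        refine lt_of_le_of_ne (Subgroup.map_mono hlt.le) fun e => hlt.ne ?_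
        have h := congrArg (Subgroup.comap π) e
        rwa [hback, hback, sup_eq_left.2 hYV, sup_eq_left.2 (hYV.trans hlt.le)] at h)
      (fun W hW hVW hWU => by
        rcases hchief (W.comap π) (hW.comap π)
          ((Subgroup.map_le_iff_le_comap.1 hVW))
          ((Subgroup.comap_mono hWU).trans (by rw [hback, sup_eq_left.2 (hYV.trans hlt.le)])) with h | h
        · left; rw [← h, Subgroup.map_comap_eq_self_of_surjective hsur]
        · right; rw [← h, Subgroup.map_comap_eq_self_of_surjective hsur])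
      hVU (Subgroup.mem_map_of_mem π (Subgroup.le_normalClosure hb))
      (by
        rintro _ ⟨u, hu, rfl⟩
        have h := hB2 (Subgroup.commutator_mem_commutator hb (hB' u hu))
        rw [← map_commutatorElement, ← map_commutatorElement, ← map_commutatorElement,
          commutatorElement_eq_one_iff_mul_comm.2 (h b hb), map_one])
      (by
        rintro _ ⟨u, hu, rfl⟩ _ ⟨w, hw, rfl⟩
        have h := hB2 (Subgroup.commutator_mem_commutator hb (hB' u hu))
        rw [← map_commutatorElement, ← map_commutatorElement, ← map_commutatorElement, ← map_commutatorElement,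
          commutatorElement_eq_one_iff_mul_comm.2 (h _ (hB' w hw)).symm, map_one])
    have hall : (⁅U, U⁆).map π ≤ Subgroup.centralizer {π b} := by
      rw [Subgroup.map_commutator, Subgroup.commutator_le]
      intro u hu w hw
      exact Subgroup.mem_centralizer_singleton_iff.2
        (commutatorElement_eq_one_iff_mul_comm.1 (hpair u hu w hw)).symm
    intro x hx
    exact Subgroup.mem_centralizer_singleton_iff.1 (hall hx)
  have hle := commutator_normalClosure_le (U := ⁅U, U⁆) (V := Y) (B := B) (by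
    rw [le_iff_map_eq_bot, Subgroup.map_commutator, Subgroup.commutator_comm,
      Subgroup.commutator_eq_bot_iff_le_centralizer]
    exact hcen)
  exact hle

/-- For `p = 2`: a cubic action on a chief factor is quadratic or has a nontrivial quadratic square. -/
theorem factor_two [hp2 : Fact (Nat.Prime 2)] {B U : Subgroup G} [U.Normal] (hUp : IsPGroup 2 U) (hU0 : U ≠ ⊥)
    (hUs : ⁅U, Subgroup.normalClosure (B : Set G)⁆ = U) (h3 : ⁅⁅⁅U, B⁆, B⁆, B⁆ = ⊥) :
    ∃ g ∈ B, ∃ V : Subgroup G, IsChiefFactor U V ∧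
      ⁅⁅U, Subgroup.zpowers g⁆, Subgroup.zpowers g⁆ ≤ V ∧ ¬ ⁅U, Subgroup.zpowers g⁆ ≤ V := by
  classical
  obtain ⟨V, hWV, hUV⟩ := exists_chief_between (derived_lt hUp hU0)
  haveI := hUV.2.2.1
  obtain ⟨g, hg, hgV⟩ := exists_mem_not_le (B := B) (U := U) (V := V)
    fun h => hUV.1.not_ge (hUs.ge.trans (commutator_normalClosure_le h))
  set Z := Subgroup.zpowers g
  by_cases hq : ⁅⁅U, Z⁆, Z⁆ ≤ V
  · exact ⟨g, hg, V, hUV, hq, hgV⟩
  have hsur := QuotientGroup.mk'_surjective V
  set π := QuotientGroup.mk' V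
  haveI : (U.map π).Normal := Subgroup.Normal.map inferInstance π hsur
  set x := π g
  have hab : ∀ a ∈ U.map π, ∀ c ∈ U.map π, a * c = c * a := by
    rintro _ ⟨a, ha, rfl⟩ _ ⟨c, hc, rfl⟩
    rw [← commutatorElement_eq_one_iff_mul_comm, ← map_commutatorElement]
    exact (QuotientGroup.eq_one_iff _).2 (hWV (Subgroup.commutator_mem_commutator ha hc))
  -- exponent two
  have hexp : ∀ a ∈ U.map π, a * a = 1 := by
    let M : Subgroup (G ⧸ V) :=
      { carrier := {a | a ∈ U.map π ∧ a * a = 1}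
        one_mem' := ⟨one_mem _, one_mul 1⟩
        mul_mem' := fun {a c} ha hc => ⟨mul_mem ha.1 hc.1, by
          calc a * c * (a * c) = a * (c * a) * c := by group
            _ = (a * a) * (c * c) := by rw [hab c hc.1 a ha.1]; group
            _ = 1 := by rw [ha.2, hc.2, one_mul]⟩
        inv_mem' := fun {a} ha => ⟨inv_mem ha.1, by rw [← mul_inv_rev, ha.2, inv_one]⟩ }
    haveI hMn : M.Normal := ⟨fun a ha n => ⟨(‹(U.map π).Normal›).conj_mem a ha.1 n, by
      rw [show n * a * n⁻¹ * (n * a * n⁻¹) = n * (a * a) * n⁻¹ by group, ha.2]; group⟩⟩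
    have hne : U.map π ≠ ⊥ := fun e => by
      rw [Subgroup.map_eq_bot_iff, QuotientGroup.ker_mk'] at e
      exact hUV.1.not_ge e
    have hMne : M ≠ ⊥ := fun e => by
      obtain ⟨⟨a, ha⟩, ha'⟩ := (Subgroup.ne_bot_iff_exists_ne_one).1 hne
      have ha1 : a ≠ 1 := fun e => ha' (Subtype.ext e)
      obtain ⟨k, hk⟩ := (hUp.map π) ⟨a, ha⟩
      have hk' : a ^ 2 ^ k = 1 := by simpa using congrArg Subtype.val hk
      have hex : ∃ j, a ^ 2 ^ j = 1 := ⟨k, hk'⟩
      have h0 : Nat.find hex ≠ 0 := fun h => ha1 (by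
        have := Nat.find_spec hex; rw [h, pow_zero, pow_one] at this; exact this)
      obtain ⟨j, hj⟩ := Nat.exists_eq_succ_of_ne_zero h0
      have h1 := Nat.find_spec hex
      rw [hj, pow_succ, pow_mul, pow_two] at h1
      exact Nat.find_min hex (m := j) (by omega) (Subgroup.mem_bot.1 (e.le ⟨pow_mem ha _, h1⟩))
    intro a ha
    rcases hUV.2.2.2 (M.comap π) (hMn.comap π) (fun v hv => ⟨by
        rw [show π v = 1 from (QuotientGroup.eq_one_iff v).2 hv]; exact one_mem _, by
        rw [show π v = 1 from (QuotientGroup.eq_one_iff v).2 hv]; exact one_mul 1⟩)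
      (by
        intro v hv
        obtain ⟨u, hu, e⟩ := hv.1
        have := QuotientGroup.eq.1 e
        have h := mul_mem hu (hUV.1.le this)
        rwa [mul_inv_cancel_left] at h) with h | h
    · exfalso
      apply hMne
      rw [← Subgroup.map_comap_eq_self_of_surjective hsur M, h, Subgroup.map_eq_bot_iff, QuotientGroup.ker_mk']
    · obtain ⟨u, hu, rfl⟩ := ha
      exact ((h.ge hu : u ∈ M.comap π)).2
  have hφ : ∀ a ∈ U.map π, ⁅x, a⁆ ∈ U.map π := fun a ha => by
    rw [commutatorElement_def]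
    exact mul_mem ((‹(U.map π).Normal›).conj_mem a ha x) (inv_mem ha)
  have hfix : ∀ a ∈ U.map π, x * ⁅x, ⁅x, a⁆⁆ = ⁅x, ⁅x, a⁆⁆ * x := by
    rintro _ ⟨u, hu, rfl⟩
    rw [← commutatorElement_eq_one_iff_mul_comm, ← map_commutatorElement, ← map_commutatorElement,
      ← map_commutatorElement]
    have h : ⁅g, ⁅g, ⁅g, u⁆⁆⁆ = 1 := by
      refine Subgroup.mem_bot.1 (h3.le ?_)
      rw [Subgroup.commutator_comm _ B, Subgroup.commutator_comm _ B, Subgroup.commutator_comm _ B]
      exact Subgroup.commutator_mem_commutator hg (Subgroup.commutator_mem_commutator hg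
        (Subgroup.commutator_mem_commutator hg hu))
    rw [h, map_one]
  have hsq : ∀ a ∈ U.map π, ⁅x * x, a⁆ = ⁅x, ⁅x, a⁆⁆ := fun a ha => by
    rw [show ⁅x * x, a⁆ = ⁅x, ⁅x, a⁆⁆ * (⁅x, a⁆ * ⁅x, a⁆) by simp only [commutatorElement_def]; group,
      hexp _ (hφ a ha), mul_one]
  have hxU : U.map π ≤ Subgroup.normalizer (U.map π : Set (G ⧸ V)) := Subgroup.le_normalizer
  set Y := Subgroup.zpowers (x * x)
  set F := U.map π ⊓ Subgroup.centralizer {x * x}
  have hin : ∀ a ∈ U.map π, ∀ n : ℤ, ⁅(x * x) ^ n, a⁆ ∈ F := by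
    intro a ha n
    have hd : ⁅x, ⁅x, a⁆⁆ ∈ F := ⟨hφ _ (hφ a ha), Subgroup.mem_centralizer_singleton_iff.2 (by
      rw [← mul_assoc, ← hfix a ha, mul_assoc, ← hfix a ha, mul_assoc])⟩
    let K : Subgroup (G ⧸ V) :=
      { carrier := {y | y ∈ Subgroup.centralizer (F : Set (G ⧸ V)) ∧ ⁅y, a⁆ ∈ F}
        one_mem' := ⟨one_mem _, by simp⟩
        mul_mem' := fun {y z} hy hz => ⟨mul_mem hy.1 hz.1, by
          rw [show ⁅y * z, a⁆ = y * ⁅z, a⁆ * y⁻¹ * ⁅y, a⁆ by simp only [commutatorElement_def]; group,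
            ← hy.1 _ hz.2, mul_inv_cancel_right]
          exact mul_mem hz.2 hy.2⟩
        inv_mem' := fun {y} hy => ⟨inv_mem hy.1, by
          rw [show ⁅y⁻¹, a⁆ = y⁻¹ * ⁅y, a⁆⁻¹ * y⁻¹⁻¹ by simp only [commutatorElement_def]; group,
            ← (inv_mem hy.1) _ (inv_mem hy.2), mul_inv_cancel_right]
          exact inv_mem hy.2⟩ }
    exact (zpow_mem (show x * x ∈ K from ⟨fun f hf => (Subgroup.mem_centralizer_singleton_iff.1 hf.2), by
      rw [hsq a ha]; exact hd⟩) n).2
  have h1 : ⁅U.map π, Y⁆ ≤ F := by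
    rw [Subgroup.commutator_le]
    intro a ha y hy
    obtain ⟨n, rfl⟩ := Subgroup.mem_zpowers_iff.1 hy
    rw [show ⁅a, (x * x) ^ n⁆ = ⁅(x * x) ^ n, a⁆⁻¹ by simp]
    exact inv_mem (hin a ha n)
  have hmap : (Subgroup.zpowers (g * g)).map π = Y := by rw [MonoidHom.map_zpowers, map_mul]
  refine ⟨g * g, mul_mem hg hg, V, hUV, ?_, fun h => hq ?_⟩
  · rw [le_iff_map_eq_bot, Subgroup.map_commutator, Subgroup.map_commutator,
      hmap, Subgroup.commutator_eq_bot_iff_le_centralizer]
    refine h1.trans fun f hf y hy => ?_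
    obtain ⟨n, rfl⟩ := Subgroup.mem_zpowers_iff.1 hy
    exact ((show Commute (x * x) f from (Subgroup.mem_centralizer_singleton_iff.1 hf.2).symm).zpow_left n).eq
  · rw [le_iff_map_eq_bot, Subgroup.map_commutator] at h
    have hzero : ∀ a ∈ U.map π, ⁅x, ⁅x, a⁆⁆ = 1 := fun a ha => by
      rw [← hsq a ha, show ⁅x * x, a⁆ = ⁅a, x * x⁆⁻¹ by simp,
        Subgroup.mem_bot.1 (h.le (Subgroup.commutator_mem_commutator ha
          (hmap.symm ▸ Subgroup.mem_zpowers (x * x)))), inv_one]
    rw [le_iff_map_eq_bot, Subgroup.map_commutator, Subgroup.map_commutator,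
      MonoidHom.map_zpowers]
    have hF : ⁅U.map π, Subgroup.zpowers x⁆ ≤ U.map π ⊓ Subgroup.centralizer {x} := by
      rw [Subgroup.commutator_le]
      intro a ha y hy
      obtain ⟨n, rfl⟩ := Subgroup.mem_zpowers_iff.1 hy
      let K : Subgroup (G ⧸ V) :=
        { carrier := {y | y ∈ Subgroup.centralizer ((U.map π ⊓ Subgroup.centralizer {x} : Subgroup (G ⧸ V)) : Set (G ⧸ V))
            ∧ ⁅y, a⁆ ∈ U.map π ⊓ Subgroup.centralizer {x}}
          one_mem' := ⟨one_mem _, by simp⟩
          mul_mem' := fun {y z} hy hz => ⟨mul_mem hy.1 hz.1, by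
            rw [show ⁅y * z, a⁆ = y * ⁅z, a⁆ * y⁻¹ * ⁅y, a⁆ by simp only [commutatorElement_def]; group,
              ← hy.1 _ hz.2, mul_inv_cancel_right]
            exact mul_mem hz.2 hy.2⟩
          inv_mem' := fun {y} hy => ⟨inv_mem hy.1, by
            rw [show ⁅y⁻¹, a⁆ = y⁻¹ * ⁅y, a⁆⁻¹ * y⁻¹⁻¹ by simp only [commutatorElement_def]; group,
              ← (inv_mem hy.1) _ (inv_mem hy.2), mul_inv_cancel_right]
            exact inv_mem hy.2⟩ }
      have hxK : x ∈ K := ⟨fun f hf => Subgroup.mem_centralizer_singleton_iff.1 hf.2, hφ a ha,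
        Subgroup.mem_centralizer_singleton_iff.2 (commutatorElement_eq_one_iff_mul_comm.1 (hzero a ha)).symm⟩
      rw [show ⁅a, x ^ n⁆ = ⁅x ^ n, a⁆⁻¹ by simp]
      exact inv_mem (zpow_mem hxK n).2
    rw [Subgroup.commutator_eq_bot_iff_le_centralizer]
    refine hF.trans fun f hf y hy => ?_
    obtain ⟨n, rfl⟩ := Subgroup.mem_zpowers_iff.1 hy
    exact ((show Commute x f from (Subgroup.mem_centralizer_singleton_iff.1 hf.2).symm).zpow_left n).eq

theorem witness_lower (hc : Crit p T A) {S B R : Subgroup G} (hBS : B ≤ S) (hBT : ¬ B ≤ T)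
    (hB : B ∈ kLowerStarFamily R) (hAR : A ≤ R) : Witness p S T A := by
  haveI := hc.normalT
  haveI := hc.normal
  set Z := A ⊓ Subgroup.centralizer (A : Set G) with hZdef
  haveI : Z.Normal := inferInstanceAs (A ⊓ Subgroup.centralizer (A : Set G)).Normal
  set CB := B ⊓ Subgroup.centralizer (B : Set G) with hCB
  obtain ⟨hB2, hRB, htest⟩ := hB
  have hnorm : ∀ X : Subgroup G, X.Normal → B ≤ Subgroup.normalizer (X : Set G) := fun X hX => by
    haveI := hX
    exact le_top.trans (Subgroup.normalizer_eq_top X).ge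
  have hAB : ⁅A, B⁆ ≤ B := by
    rw [Subgroup.commutator_comm]; exact commutator_le_left_of_normalizes (hAR.trans hRB)
  have hABB : ⁅⁅A, B⁆, B⁆ ≤ Subgroup.centralizer (B : Set G) := (Subgroup.commutator_mono hAB le_rfl).trans hB2
  by_cases hZB : CB ≤ T
  swap
  · refine witness_of_killed hc (inf_le_left.trans hBS) hZB (le_bot_iff.1 ?_)
    exact (Subgroup.commutator_mono ((Subgroup.commutator_mono le_rfl inf_le_left).trans hAB) inf_le_right).trans
      (le_bot_iff.2 (by rw [Subgroup.commutator_comm, Subgroup.commutator_eq_bot_iff_le_centralizer]))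
  have hZZ : ⁅Z, Z⁆ = ⊥ := Subgroup.commutator_eq_bot_iff_le_centralizer.2
    (inf_le_right.trans (Subgroup.centralizer_le (SetLike.coe_subset_coe.2 inf_le_left)))
  have hZ2 : Z ∈ classTwoSubgroups G := by
    show ⁅Z, Z⁆ ≤ _; rw [hZZ]; exact bot_le
  have hBZ : ⁅B, Z⁆ ≤ CB := htest Z hZ2 (inf_le_left.trans hAR) (hnorm Z inferInstance)
    (by rw [hZZ]; simp) (le_bot_iff.1 ((Subgroup.commutator_mono (Subgroup.commutator_le_right CB Z) le_rfl).trans
      hZZ.le))
  have hkill : ⁅⁅⁅A, B⁆, B⁆, B⁆ = ⊥ := Subgroup.commutator_eq_bot_iff_le_centralizer.2 hABB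
  refine witness_of_quadratic hc.core hc.pGroup hc.le hc.aut hBS hBT ?_ (le_bot_iff.1 ?_)
    fun U hUn hUA hU0 hUs hUmin => ?_
  · show ⁅⁅⁅A, B⁆, B⁆, B⁆ ≤ _
    rw [hkill]; exact bot_le
  · refine (Subgroup.commutator_mono ((Subgroup.commutator_comm Z B).le.trans hBZ) le_rfl).trans ?_
    exact le_bot_iff.2 (Subgroup.commutator_eq_bot_iff_le_centralizer.2 inf_le_right)
  have hUp : IsPGroup p U := hc.pGroup.to_le (hUA.trans hc.le)
  by_cases h2 : p = 2
  · subst h2
    exact factor_two hUp hU0 hUs (le_bot_iff.1 ((Subgroup.commutator_mono (Subgroup.commutator_mono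
      (Subgroup.commutator_mono hUA le_rfl) le_rfl) le_rfl).trans hkill.le))
  have hU2 : ⁅U, U⁆ ≤ Subgroup.centralizer (U : Set G) := (Subgroup.commutator_mono hUA hUA).trans
    (hc.two.trans (Subgroup.centralizer_le (SetLike.coe_subset_coe.2 hUA)))
  have hBU : ⁅B, U⁆ ≤ CB := htest U hU2 (hUA.trans hAR) (hnorm U hUn)
    (derived_centralized h2 hUp hU0 hU2 hB2 (hUA.trans (hAR.trans hRB)) hUs hUmin)
    (le_bot_iff.1 <| by
      refine (Subgroup.commutator_mono ((Subgroup.commutator_mono hZB hUA).trans hc.three) le_rfl).trans ?_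
      exact le_bot_iff.2 (Subgroup.commutator_eq_bot_iff_le_centralizer.2
        (inf_le_right.trans (Subgroup.centralizer_le (SetLike.coe_subset_coe.2 hUA)))))
  refine factor_of_double (W := ⊥) (bot_lt_iff_ne_bot.2 hU0) ?_ hUs
  refine (Subgroup.commutator_mono ((Subgroup.commutator_comm U B).le.trans hBU) le_rfl).trans ?_
  exact le_bot_iff.2 (Subgroup.commutator_eq_bot_iff_le_centralizer.2 inf_le_right)

theorem exists_mem_not_le' {H : Subgroup G} {𝒦 : Set (Subgroup H)} (h : ¬ sSup 𝒦 ≤ T.subgroupOf H) :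
    ∃ B ∈ 𝒦, ¬ B.map H.subtype ≤ T := by
  by_contra hc
  push Not at hc
  exact h (sSup_le fun B hB => Subgroup.map_le_iff_le_comap.1 (hc B hB))

theorem kInf_normal {H : Subgroup G} [T.Normal] (hTH : T ≤ H) (hTp : IsPGroup p T)
    (hK : ∀ n, kSeqEven H n ≤ T.subgroupOf H ∧ kSeqOdd H (n + 1) ≤ T.subgroupOf H) :
    (inducedFunctor kInfLower H).Normal ∧ (inducedFunctor kInfUpper H).Normal := by
  have hr : (Subgroup.inclusion hTH).range = T.subgroupOf H := Subgroup.inclusion_range hTH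
  obtain ⟨h1, h2⟩ := kInf_map_of_le_range (Subgroup.inclusion_injective hTH) fun n => by rw [hr]; exact hK n
  obtain ⟨⟨-, hl⟩, ⟨-, hu⟩⟩ := isCharPFunctor.{u} p
  haveI : (kInfLower T).Characteristic := Subgroup.characteristic_iff_map_eq.2 fun φ => hl T T hTp φ
  haveI : (kInfUpper T).Characteristic := Subgroup.characteristic_iff_map_eq.2 fun φ => hu T T hTp φ
  unfold inducedFunctor
  rw [← h1, ← h2, Subgroup.map_map, Subgroup.map_map, Subgroup.subtype_comp_inclusion]
  exact ⟨ConjAct.normal_of_characteristic_of_normal, ConjAct.normal_of_characteristic_of_normal⟩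

/-- Some element outside `T` acts as required when a K-infinity subgroup is not normal. -/
theorem witness_of_not_normal (S : Sylow p G) (hc : Crit p T A)
    (hK : ¬ (inducedFunctor kInfLower (S : Subgroup G)).Normal ∨
      ¬ (inducedFunctor kInfUpper (S : Subgroup G)).Normal) : Witness p (S : Subgroup G) T A := by
  haveI := hc.normalT
  have hTS : T ≤ (S : Subgroup G) := IsPGroup.le_sylow_of_normal hc.pGroup S
  set H : Subgroup G := (S : Subgroup G)
  have hinj : Function.Injective H.subtype := H.subtype_injective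
  have htop : (⊤ : Subgroup H).map H.subtype = H := by rw [← MonoidHom.range_eq_map, H.range_subtype]
  by_cases hA : A ∈ kLowerStarFamily H
  swap
  · exact witness_lower_outside hc hA
  set A₀ := A.subgroupOf H
  have hA₀ : A₀.map H.subtype = A := Subgroup.map_subgroupOf_eq_of_le (hc.le.trans hTS)
  have hAeven : ∀ m, A₀ ≤ kSeqEven H m := fun m => le_trans (le_sSup ((lower_map_iff hinj).1 (by
    rw [hA₀, show (kSeqOdd H 0).map H.subtype = H from htop]; exact hA))) (even_monotone (Nat.zero_le m))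
  by_cases hodd : ∀ m, kSeqOdd H (m + 1) ≤ T.subgroupOf H
  swap
  · obtain ⟨m, hm⟩ := not_forall.1 hodd
    obtain ⟨B, hB, hBT⟩ := exists_mem_not_le' (show ¬ sSup (kUpperStarFamily (kSeqEven H m)) ≤ _ from hm)
    exact witness_upper hc (Subgroup.map_subtype_le _) hBT ((upper_map_iff hinj).2 hB)
      (hA₀.ge.trans (Subgroup.map_mono (hAeven m)))
  have hex : ∃ m, ¬ kSeqEven H m ≤ T.subgroupOf H := by
    by_contra hcn
    push Not at hcn
    obtain ⟨n1, n2⟩ := kInf_normal hTS hc.pGroup fun n => ⟨hcn n, hodd n⟩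
    exact hK.elim (fun h => h n1) fun h => h n2
  classical
  obtain ⟨B, hB, hBT⟩ := exists_mem_not_le' (show ¬ sSup (kLowerStarFamily (kSeqOdd H (Nat.find hex))) ≤ _ from
    Nat.find_spec hex)
  refine witness_lower hc (Subgroup.map_subtype_le _) hBT ((lower_map_iff hinj).2 hB) ?_
  rcases Nat.eq_zero_or_pos (Nat.find hex) with h | h
  · rw [h, show (kSeqOdd H 0).map H.subtype = H from htop]; exact hc.le.trans hTS
  · obtain ⟨k, hk⟩ := Nat.exists_eq_succ_of_ne_zero h.ne'
    have hE : kSeqEven H k ≤ T.subgroupOf H := not_not.1 (Nat.find_min hex (m := k) (by omega))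
    rw [hk]
    refine hA₀.ge.trans (Subgroup.map_mono (le_sSup ((upper_map_iff hinj).1 ⟨?_, ?_⟩)))
    · rw [hA₀]; exact hc.two
    · rw [hA₀, Subgroup.commutator_comm]
      exact (Subgroup.commutator_mono (Subgroup.map_le_iff_le_comap.2 hE) le_rfl).trans hc.three

end setup

end CfsgLib.KInf
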