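import Cfsg.Agent.Lib.Basic
import Cfsg.Agent.Lib.CoprimeSeries
import Cfsg.Prelude.Def_ConjugacyFunctors
import Cfsg.Prelude.Def_PLocal

/-!
The K-sequence of a finite `p`-group: monotonicity, self-centralizing members, restriction along injections and
isomorphism invariance of the two K-infinity subgroups.
-/

set_option autoImplicit false
set_option linter.unusedSectionVars false

namespace CfsgLib.KInf

open CfsgLib Cfsg CfsgLib.Stabilizer
open scoped commutatorElement

universe u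

variable {P : Type*} [Group P]

theorem lowerFamily_anti {Q Q' : Subgroup P} (h : Q ≤ Q') : kLowerStarFamily Q' ⊆ kLowerStarFamily Q :=
  fun _ hB => ⟨hB.1, h.trans hB.2.1, fun A hA hAQ => hB.2.2 A hA (hAQ.trans h)⟩

theorem upperFamily_anti {Q Q' : Subgroup P} (h : Q ≤ Q') : kUpperStarFamily Q' ⊆ kUpperStarFamily Q :=
  fun _ hB => ⟨hB.1, (Subgroup.commutator_mono le_rfl h).trans hB.2⟩

theorem mono_succ (n : ℕ) : kSeqOdd P (n + 1) ≤ kSeqOdd P n ∧ kSeqEven P n ≤ kSeqEven P (n + 1) := by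
  have key : kSeqOdd P (n + 1) ≤ kSeqOdd P n := by
    induction n with
    | zero => exact le_top
    | succ n ih => exact sSup_le_sSup (upperFamily_anti (sSup_le_sSup (lowerFamily_anti ih)))
  exact ⟨key, sSup_le_sSup (lowerFamily_anti key)⟩

theorem odd_antitone : Antitone (kSeqOdd P) := antitone_nat_of_succ_le fun n => (mono_succ n).1

theorem even_monotone : Monotone (kSeqEven P) := monotone_nat_of_le_succ fun n => (mono_succ n).2

theorem stabilises [Finite P] :
    ∃ n : ℕ, ∀ m : ℕ, n ≤ m → kSeqEven P m = kInfLower P ∧ kSeqOdd P m = kInfUpper P := by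
  obtain ⟨a, ha⟩ := WellFoundedGT.monotone_chain_condition
    ⟨kSeqEven P, even_monotone⟩
  obtain ⟨b, hb⟩ := WellFoundedGT.monotone_chain_condition
    ⟨fun n => OrderDual.toDual (kSeqOdd P n), fun _ _ h => odd_antitone h⟩
  refine ⟨max a b, fun m hm => ⟨le_antisymm (le_iSup _ m) (iSup_le fun i => ?_),
    le_antisymm (le_iInf fun i => ?_) (iInf_le _ m)⟩⟩
  · rcases le_total i m with h | h
    · exact even_monotone h
    · exact ((ha i (by omega)).symm.trans (ha m (by omega))).le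
  · rcases le_total i m with h | h
    · exact odd_antitone h
    · exact (OrderDual.toDual.injective ((hb m (by omega)).symm.trans (hb i (by omega)))).le

theorem bot_mem_lower (Q : Subgroup P) : (⊥ : Subgroup P) ∈ kLowerStarFamily Q :=
  ⟨by show ⁅(⊥ : Subgroup P), (⊥ : Subgroup P)⁆ ≤ _; simp,
    by rw [Subgroup.le_normalizer_iff_commutator_le_right]; simp,
    fun _ _ _ _ _ _ => by simp⟩

theorem bot_mem_upper (Q : Subgroup P) : (⊥ : Subgroup P) ∈ kUpperStarFamily Q :=
  ⟨by show ⁅(⊥ : Subgroup P), (⊥ : Subgroup P)⁆ ≤ _; simp, by simp⟩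

theorem normalizes_of_mem_upper {Q B : Subgroup P} (h : B ∈ kUpperStarFamily Q) :
    Q ≤ Subgroup.normalizer (B : Set P) := by
  rw [Subgroup.le_normalizer_iff_commutator_le_right, Subgroup.commutator_comm]
  exact h.2.trans inf_le_left

/-- An element centralizing `B` and fixed by `Q` modulo `B` exists outside `B` unless `B` is self-centralizing. -/
theorem exists_extension [Finite P] {p : ℕ} [Fact p.Prime] (hP : IsPGroup p P) {B Q : Subgroup P}
    (hQ : Q ≤ Subgroup.normalizer (B : Set P)) (hC : ¬ Subgroup.centralizer (B : Set P) ≤ B) :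
    ∃ x ∈ Subgroup.centralizer (B : Set P), x ∉ B ∧
      ∀ q ∈ Q, ⁅x, q⁆ ∈ B ⊓ Subgroup.centralizer (B : Set P) := by
  classical
  set C := Subgroup.centralizer (B : Set P)
  have hQC : Q ≤ Subgroup.normalizer (C : Set P) :=
    hQ.trans (Subgroup.le_normalizer_iff.2 fun n hn c hc b hb => by
      have h1 := hc _ ((Subgroup.mem_normalizer_iff.1 ((Subgroup.normalizer _).inv_mem hn) b).1 hb)
      rw [inv_inv] at h1
      calc b * (n * c * n⁻¹) = n * (n⁻¹ * b * n * c) * n⁻¹ := by group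
        _ = n * c * n⁻¹ * b := by rw [h1]; group)
  have hW : ∀ k, iterCommutator C Q k ≤ C := by
    intro k
    induction k with
    | zero => exact le_rfl
    | succ k ih => exact (Subgroup.commutator_mono ih le_rfl).trans (commutator_le_left_of_normalizes hQC)
  haveI := hP.isNilpotent
  obtain ⟨n, hn⟩ := Subgroup.nilpotent_iff_lowerCentralSeries.1 (inferInstance : Group.IsNilpotent P)
  have hlc : ∀ k, iterCommutator C Q k ≤ (⊤ : Subgroup P).lowerCentralSeries k := by
    intro k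
    induction k with
    | zero => exact le_top
    | succ k ih => exact Subgroup.commutator_mono ih le_top
  have hex : ∃ k, iterCommutator C Q k ≤ B := ⟨n, ((hlc n).trans hn.le).trans bot_le⟩
  have h0 : Nat.find hex ≠ 0 := fun h => hC (by
    have := Nat.find_spec hex
    rwa [h] at this)
  obtain ⟨k, hk⟩ := Nat.exists_eq_succ_of_ne_zero h0
  obtain ⟨x, hx, hxB⟩ := SetLike.not_le_iff_exists.1 (Nat.find_min hex (m := k) (by omega))
  refine ⟨x, hW k hx, hxB, fun q hq => ?_⟩
  have h1 : ⁅x, q⁆ ∈ iterCommutator C Q (k + 1) := Subgroup.commutator_mem_commutator hx hq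
  have h2 := Nat.find_spec hex
  rw [hk] at h2
  exact ⟨h2 h1, hW _ h1⟩

theorem mem_centralizer_sup_zpowers {B : Subgroup P} {x z : P} (hz : z ∈ Subgroup.centralizer (B : Set P))
    (hzx : x * z = z * x) : z ∈ Subgroup.centralizer ((B ⊔ Subgroup.zpowers x : Subgroup P) : Set P) := by
  intro y hy
  have : B ⊔ Subgroup.zpowers x ≤ Subgroup.centralizer {z} := sup_le
    (fun b hb => Subgroup.mem_centralizer_singleton_iff.2 (hz b hb))
    (Subgroup.zpowers_le.2 (Subgroup.mem_centralizer_singleton_iff.2 hzx))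
  exact Subgroup.mem_centralizer_singleton_iff.1 (this hy)

section ext

variable {B : Subgroup P} {x : P}

theorem cz_le_ext (hx : x ∈ Subgroup.centralizer (B : Set P)) :
    B ⊓ Subgroup.centralizer (B : Set P) ≤
      (B ⊔ Subgroup.zpowers x) ⊓ Subgroup.centralizer ((B ⊔ Subgroup.zpowers x : Subgroup P) : Set P) :=
  fun z hz => ⟨Subgroup.mem_sup_left hz.1, mem_centralizer_sup_zpowers hz.2 (hx z hz.1).symm⟩

theorem self_mem_cz_ext (hx : x ∈ Subgroup.centralizer (B : Set P)) :
    x ∈ (B ⊔ Subgroup.zpowers x) ⊓ Subgroup.centralizer ((B ⊔ Subgroup.zpowers x : Subgroup P) : Set P) :=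
  ⟨Subgroup.mem_sup_right (Subgroup.mem_zpowers x), mem_centralizer_sup_zpowers hx rfl⟩

theorem commutator_ext_le (hx : x ∈ Subgroup.centralizer (B : Set P)) {R : Subgroup P}
    (hB : ⁅B, R⁆ ≤ B ⊓ Subgroup.centralizer (B : Set P))
    (hxR : ∀ r ∈ R, ⁅x, r⁆ ∈ B ⊓ Subgroup.centralizer (B : Set P)) :
    ⁅B ⊔ Subgroup.zpowers x, R⁆ ≤
      (B ⊔ Subgroup.zpowers x) ⊓ Subgroup.centralizer ((B ⊔ Subgroup.zpowers x : Subgroup P) : Set P) := by
  set B' := B ⊔ Subgroup.zpowers x
  set Z := B' ⊓ Subgroup.centralizer (B' : Set P)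
  rw [Subgroup.commutator_le]
  intro y hy r hr
  rw [show B' = Subgroup.closure ((B : Set P) ∪ {x}) by
    rw [Subgroup.closure_union, Subgroup.closure_eq, ← Subgroup.zpowers_eq_closure]] at hy
  have hc : ∀ y₁ ∈ B', ∀ z ∈ Z, y₁ * z * y₁⁻¹ = z := fun y₁ hy₁ z hz => by
    rw [hz.2 y₁ hy₁]; group
  have key : y ∈ B' ∧ ⁅y, r⁆ ∈ Z := by
    induction hy using Subgroup.closure_induction with
    | mem z hz =>
      rcases hz with hz | rfl
      · exact ⟨Subgroup.mem_sup_left hz, cz_le_ext hx (hB (Subgroup.commutator_mem_commutator hz hr))⟩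
      · exact ⟨Subgroup.mem_sup_right (Subgroup.mem_zpowers _), cz_le_ext hx (hxR r hr)⟩
    | one => exact ⟨one_mem _, by simp⟩
    | mul a b _ _ ha hb =>
      refine ⟨mul_mem ha.1 hb.1, ?_⟩
      rw [show ⁅a * b, r⁆ = a * ⁅b, r⁆ * a⁻¹ * ⁅a, r⁆ by simp only [commutatorElement_def]; group,
        hc a ha.1 _ hb.2]
      exact mul_mem hb.2 ha.2
    | inv a _ ha =>
      refine ⟨inv_mem ha.1, ?_⟩
      rw [show ⁅a⁻¹, r⁆ = a⁻¹ * ⁅a, r⁆⁻¹ * a⁻¹⁻¹ by simp only [commutatorElement_def]; group,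
        hc _ (inv_mem ha.1) _ (inv_mem ha.2)]
      exact inv_mem ha.2
  exact key.2

theorem classTwo_ext (hx : x ∈ Subgroup.centralizer (B : Set P)) (hB : B ∈ classTwoSubgroups P) :
    B ⊔ Subgroup.zpowers x ∈ classTwoSubgroups P := by
  have hB' : ⁅B, B⁆ ≤ B ⊓ Subgroup.centralizer (B : Set P) := le_inf (Subgroup.commutator_le_self B) hB
  have h1 := commutator_ext_le hx (R := B) hB' fun b hb => by
    rw [commutatorElement_eq_one_iff_mul_comm.2 (hx b hb).symm]; exact one_mem _
  have h2 := commutator_ext_le hx (R := Subgroup.zpowers x)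
    (le_trans (by rw [Subgroup.commutator_eq_bot_iff_le_centralizer.2]
                  intro b hb y hy
                  obtain ⟨k, rfl⟩ := Subgroup.mem_zpowers_iff.1 hy
                  exact (Commute.zpow_left (show Commute x b from (hx b hb).symm) k).eq) bot_le)
    fun r hr => by
      obtain ⟨k, rfl⟩ := Subgroup.mem_zpowers_iff.1 hr
      rw [commutatorElement_eq_one_iff_mul_comm.2 (Commute.self_zpow x k)]; exact one_mem _
  show ⁅B ⊔ Subgroup.zpowers x, B ⊔ Subgroup.zpowers x⁆ ≤ _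
  rw [Subgroup.commutator_le]
  intro a ha b hb
  set Z := (B ⊔ Subgroup.zpowers x) ⊓ Subgroup.centralizer ((B ⊔ Subgroup.zpowers x : Subgroup P) : Set P)
  rw [show B ⊔ Subgroup.zpowers x = Subgroup.closure ((B : Set P) ∪ {x}) by
    rw [Subgroup.closure_union, Subgroup.closure_eq, ← Subgroup.zpowers_eq_closure]] at hb
  have key : b ∈ B ⊔ Subgroup.zpowers x ∧ ⁅a, b⁆ ∈ Z := by
    induction hb using Subgroup.closure_induction with
    | mem z hz =>
      rcases hz with hz | rfl
      · exact ⟨Subgroup.mem_sup_left hz, h1 (Subgroup.commutator_mem_commutator ha hz)⟩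
      · exact ⟨Subgroup.mem_sup_right (Subgroup.mem_zpowers _),
          h2 (Subgroup.commutator_mem_commutator ha (Subgroup.mem_zpowers _))⟩
    | one => exact ⟨one_mem _, by simp⟩
    | mul u v _ _ hu hv =>
      refine ⟨mul_mem hu.1 hv.1, ?_⟩
      rw [show ⁅a, u * v⁆ = ⁅a, u⁆ * (u * ⁅a, v⁆ * u⁻¹) by simp only [commutatorElement_def]; group,
        hv.2.2 u hu.1, mul_inv_cancel_right]
      exact mul_mem hu.2 hv.2
    | inv u _ hu =>
      refine ⟨inv_mem hu.1, ?_⟩
      rw [show ⁅a, u⁻¹⁆ = u⁻¹ * ⁅a, u⁆⁻¹ * u by simp only [commutatorElement_def]; group,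
        (inv_mem hu.2).2 u⁻¹ (inv_mem hu.1), inv_mul_cancel_right]
      exact inv_mem hu.2
  exact key.2.2

end ext

theorem classTwo_max [Finite P] {p : ℕ} [Fact p.Prime] (hP : IsPGroup p P) {B : Subgroup P}
    (hB : B ∈ classTwoSubgroups P) (hmax : ∀ C ∈ classTwoSubgroups P, B ≤ C → C = B) :
    Subgroup.centralizer (B : Set P) ≤ B := by
  by_contra hC
  obtain ⟨x, hx, hxB, -⟩ := exists_extension hP (Q := ⊥) (by simp) hC
  exact hxB ((hmax _ (classTwo_ext hx hB) le_sup_left).le (Subgroup.mem_sup_right (Subgroup.mem_zpowers x)))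

theorem upper_max [Finite P] {p : ℕ} [Fact p.Prime] (hP : IsPGroup p P) {Q B : Subgroup P}
    (hB : B ∈ kUpperStarFamily Q) (hmax : ∀ C ∈ kUpperStarFamily Q, B ≤ C → C = B) :
    Subgroup.centralizer (B : Set P) ≤ B := by
  by_contra hC
  obtain ⟨x, hx, hxB, hxQ⟩ := exists_extension hP (normalizes_of_mem_upper hB) hC
  exact hxB ((hmax _ ⟨classTwo_ext hx hB.1, commutator_ext_le hx hB.2 hxQ⟩ le_sup_left).le
    (Subgroup.mem_sup_right (Subgroup.mem_zpowers x)))

theorem lower_max [Finite P] {p : ℕ} [Fact p.Prime] (hP : IsPGroup p P) {Q B : Subgroup P}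
    (hB : B ∈ kLowerStarFamily Q) (hmax : ∀ C ∈ kLowerStarFamily Q, B ≤ C → C = B) :
    Subgroup.centralizer (B : Set P) ≤ B := by
  by_contra hC
  obtain ⟨x, hx, hxB, hxQ⟩ := exists_extension hP hB.2.1 hC
  set B' := B ⊔ Subgroup.zpowers x
  suffices h : B' ∈ kLowerStarFamily Q from
    hxB ((hmax _ h le_sup_left).le (Subgroup.mem_sup_right (Subgroup.mem_zpowers x)))
  refine ⟨classTwo_ext hx hB.1, Subgroup.le_normalizer_iff.2 fun q hq y hy => ?_, ?_⟩
  · revert y
    show B' ≤ B'.comap (MulAut.conj q).toMonoidHom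
    refine sup_le (fun b hb => Subgroup.mem_sup_left ((Subgroup.mem_normalizer_iff.1 (hB.2.1 hq) b).1 hb))
      (Subgroup.zpowers_le.2 ?_)
    show q * x * q⁻¹ ∈ B'
    have h1 := Subgroup.mem_sup_left (T := Subgroup.zpowers x) (hxQ q hq).1
    rw [show q * x * q⁻¹ = ⁅x, q⁆⁻¹ * x by simp only [commutatorElement_def]; group]
    exact mul_mem (inv_mem h1) (Subgroup.mem_sup_right (Subgroup.mem_zpowers x))
  · intro A hA hAQ hBA hA' hZ
    refine commutator_ext_le hx (hB.2.2 A hA hAQ (le_sup_left.trans hBA) ?_ ?_) fun a ha => hxQ a (hAQ ha)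
    · exact le_bot_iff.1 ((Subgroup.commutator_mono le_sup_left le_rfl).trans hA'.le)
    · exact le_bot_iff.1 ((Subgroup.commutator_mono (Subgroup.commutator_mono (cz_le_ext hx) le_rfl)
        le_rfl).trans hZ.le)

theorem exists_max [Finite P] {𝒦 : Set (Subgroup P)} (h : (⊥ : Subgroup P) ∈ 𝒦) :
    ∃ B ∈ 𝒦, ∀ C ∈ 𝒦, B ≤ C → C = B := by
  obtain ⟨B, hB⟩ := (Set.toFinite 𝒦).exists_maximal ⟨⊥, h⟩
  exact ⟨B, hB.prop, fun C hC hBC => le_antisymm (hB.2 hC hBC) hBC⟩

theorem centralizer_sSup_lower [Finite P] {p : ℕ} [Fact p.Prime] (hP : IsPGroup p P) (Q : Subgroup P) :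
    Subgroup.centralizer (sSup (kLowerStarFamily Q) : Subgroup P) ≤ sSup (kLowerStarFamily Q) := by
  obtain ⟨B, hB, hmax⟩ := exists_max (bot_mem_lower Q)
  exact ((Subgroup.centralizer_le (SetLike.coe_subset_coe.2 (le_sSup hB))).trans (lower_max hP hB hmax)).trans (le_sSup hB)

theorem centralizer_sSup_upper [Finite P] {p : ℕ} [Fact p.Prime] (hP : IsPGroup p P) (Q : Subgroup P) :
    Subgroup.centralizer (sSup (kUpperStarFamily Q) : Subgroup P) ≤ sSup (kUpperStarFamily Q) := by
  obtain ⟨B, hB, hmax⟩ := exists_max (bot_mem_upper Q)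
  exact ((Subgroup.centralizer_le (SetLike.coe_subset_coe.2 (le_sSup hB))).trans (upper_max hP hB hmax)).trans (le_sSup hB)

theorem centralizer_kInf [Finite P] {p : ℕ} [Fact p.Prime] (hP : IsPGroup p P) :
    Subgroup.centralizer (kInfLower P : Set P) ≤ kInfLower P ∧
      Subgroup.centralizer (kInfUpper P : Set P) ≤ kInfUpper P := by
  obtain ⟨n, hn⟩ := stabilises (P := P)
  constructor
  · rw [← (hn n le_rfl).1]; exact centralizer_sSup_lower hP _
  · rw [← (hn (n + 1) (by omega)).2]; exact centralizer_sSup_upper hP _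

theorem center_le_kInf [Finite P] {p : ℕ} [Fact p.Prime] (hP : IsPGroup p P) :
    Subgroup.center P ≤ kInfLower P ∧ Subgroup.center P ≤ kInfUpper P :=
  ⟨(Subgroup.center_le_centralizer _).trans (centralizer_kInf hP).1,
    (Subgroup.center_le_centralizer _).trans (centralizer_kInf hP).2⟩

section map

variable {Q : Type*} [Group Q] {f : Q →* P} (hf : Function.Injective f)
include hf

theorem map_cz (B : Subgroup Q) : (B ⊓ Subgroup.centralizer (B : Set Q)).map f =
    B.map f ⊓ Subgroup.centralizer (B.map f : Set P) := by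
  rw [Subgroup.map_inf _ _ f hf]
  refine le_antisymm (inf_le_inf_left _ ((Subgroup.map_centralizer_le_centralizer_image _ f).trans
    (le_of_eq (by rw [Subgroup.coe_map])))) ?_
  rintro y ⟨hy, hy'⟩
  obtain ⟨b, hb, rfl⟩ := hy
  exact ⟨⟨b, hb, rfl⟩, ⟨b, fun c hc => hf (by simpa using hy' (f c) ⟨c, hc, rfl⟩), rfl⟩⟩

theorem normalizes_map_iff {B A : Subgroup Q} :
    A.map f ≤ Subgroup.normalizer (B.map f : Set P) ↔ A ≤ Subgroup.normalizer (B : Set Q) := by
  rw [Subgroup.le_normalizer_iff_commutator_le_right, ← Subgroup.map_commutator,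
    Subgroup.map_le_map_iff_of_injective hf, ← Subgroup.le_normalizer_iff_commutator_le_right]

theorem classTwo_map_iff {B : Subgroup Q} :
    B.map f ∈ classTwoSubgroups P ↔ B ∈ classTwoSubgroups Q := by
  show ⁅B.map f, B.map f⁆ ≤ _ ↔ ⁅B, B⁆ ≤ _
  have h1 : ∀ {R : Type _} [Group R] (C : Subgroup R),
      (⁅C, C⁆ ≤ Subgroup.centralizer (C : Set R) ↔ ⁅⁅C, C⁆, C⁆ = ⊥) :=
    fun C => Subgroup.commutator_eq_bot_iff_le_centralizer.symm
  rw [h1, ← Subgroup.commutator_eq_bot_iff_le_centralizer, ← Subgroup.map_commutator,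
    ← Subgroup.map_commutator, Subgroup.map_eq_bot_iff_of_injective _ hf]

theorem upper_map_iff {R B : Subgroup Q} :
    B.map f ∈ kUpperStarFamily (R.map f) ↔ B ∈ kUpperStarFamily R := by
  simp only [kUpperStarFamily, Set.mem_setOf_eq, classTwo_map_iff hf]
  rw [← Subgroup.map_commutator, ← map_cz hf, Subgroup.map_le_map_iff_of_injective hf]

theorem lower_map_iff {R B : Subgroup Q} :
    B.map f ∈ kLowerStarFamily (R.map f) ↔ B ∈ kLowerStarFamily R := by
  simp only [kLowerStarFamily, Set.mem_setOf_eq, classTwo_map_iff hf, normalizes_map_iff hf]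
  refine and_congr_right fun _ => and_congr_right fun _ => ⟨fun h A hA hAR hBA h1 h2 => ?_,
    fun h A hA hAR hBA h1 h2 => ?_⟩
  · have := h (A.map f) ((classTwo_map_iff hf).2 hA) (Subgroup.map_mono hAR) ((normalizes_map_iff hf).2 hBA)
      (by simp only [← Subgroup.map_commutator, h1, Subgroup.map_bot])
      (by simp only [← map_cz hf, ← Subgroup.map_commutator, h2, Subgroup.map_bot])
    rwa [← map_cz hf, ← Subgroup.map_commutator, Subgroup.map_le_map_iff_of_injective hf] at this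
  · obtain ⟨A, rfl⟩ : ∃ A₀ : Subgroup Q, A₀.map f = A :=
      ⟨A.comap f, Subgroup.map_comap_eq_self (hAR.trans (Subgroup.map_le_range _ _))⟩
    rw [Subgroup.map_le_map_iff_of_injective hf] at hAR
    simp only [← map_cz hf, ← Subgroup.map_commutator, Subgroup.map_eq_bot_iff_of_injective _ hf] at h1 h2
    rw [← map_cz hf, ← Subgroup.map_commutator, Subgroup.map_le_map_iff_of_injective hf]
    exact h A ((classTwo_map_iff hf).1 hA) hAR ((normalizes_map_iff hf).1 hBA) h1 h2

theorem map_sSup_le (R : Subgroup Q) :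
    (sSup (kLowerStarFamily R)).map f ≤ sSup (kLowerStarFamily (R.map f)) ∧
      (sSup (kUpperStarFamily R)).map f ≤ sSup (kUpperStarFamily (R.map f)) := by
  constructor <;> rw [sSup_eq_iSup, Subgroup.map_iSup] <;> refine iSup_le fun B => ?_ <;>
    rw [Subgroup.map_iSup] <;> refine iSup_le fun hB => le_sSup ?_
  · exact (lower_map_iff hf).2 hB
  · exact (upper_map_iff hf).2 hB

theorem sSup_lower_le_map {R : Subgroup Q} (h : sSup (kLowerStarFamily (R.map f)) ≤ f.range) :
    sSup (kLowerStarFamily (R.map f)) ≤ (sSup (kLowerStarFamily R)).map f := by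
  refine sSup_le fun B hB => ?_
  have e : (B.comap f).map f = B := Subgroup.map_comap_eq_self ((le_sSup hB).trans h)
  rw [← e] at hB ⊢
  exact Subgroup.map_mono (le_sSup ((lower_map_iff hf).1 hB))

theorem sSup_upper_le_map {R : Subgroup Q} (h : sSup (kUpperStarFamily (R.map f)) ≤ f.range) :
    sSup (kUpperStarFamily (R.map f)) ≤ (sSup (kUpperStarFamily R)).map f := by
  refine sSup_le fun B hB => ?_
  have e : (B.comap f).map f = B := Subgroup.map_comap_eq_self ((le_sSup hB).trans h)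
  rw [← e] at hB ⊢
  exact Subgroup.map_mono (le_sSup ((upper_map_iff hf).1 hB))

/-- The sequences interleave when the image contains every term of nonnegative index. -/
theorem interleave (h : ∀ n, kSeqEven P n ≤ f.range ∧ kSeqOdd P (n + 1) ≤ f.range) (n : ℕ) :
    kSeqOdd P (n + 1) ≤ (kSeqOdd Q n).map f ∧ (kSeqOdd Q n).map f ≤ kSeqOdd P n ∧
      kSeqEven P n ≤ (kSeqEven Q n).map f ∧ (kSeqEven Q n).map f ≤ kSeqEven P (n + 1) := by
  have step : ∀ n, kSeqOdd P (n + 1) ≤ (kSeqOdd Q n).map f → (kSeqOdd Q n).map f ≤ kSeqOdd P n →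
      kSeqEven P n ≤ (kSeqEven Q n).map f ∧ (kSeqEven Q n).map f ≤ kSeqEven P (n + 1) := by
    intro n h1 h2
    refine ⟨le_trans (sSup_le_sSup (lowerFamily_anti h2)) (sSup_lower_le_map hf ?_),
      (map_sSup_le hf _).1.trans (sSup_le_sSup (lowerFamily_anti h1))⟩
    exact le_trans (sSup_le_sSup (lowerFamily_anti h1)) (h (n + 1)).1
  induction n with
  | zero =>
    have h1 : kSeqOdd P 1 ≤ (kSeqOdd Q 0).map f := by
      show kSeqOdd P 1 ≤ (⊤ : Subgroup Q).map f
      rw [← MonoidHom.range_eq_map]; exact (h 0).2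
    exact ⟨h1, le_top, step 0 h1 le_top⟩
  | succ n ih =>
    obtain ⟨h1, h2, h3, h4⟩ := ih
    have h5 : kSeqOdd P (n + 2) ≤ (kSeqOdd Q (n + 1)).map f := by
      show sSup (kUpperStarFamily (kSeqEven P (n + 1))) ≤ (sSup (kUpperStarFamily (kSeqEven Q n))).map f
      exact le_trans (sSup_le_sSup (upperFamily_anti h4)) (sSup_upper_le_map hf
        (le_trans (sSup_le_sSup (upperFamily_anti h3)) (h n).2))
    have h6 : (kSeqOdd Q (n + 1)).map f ≤ kSeqOdd P (n + 1) :=
      (map_sSup_le hf (kSeqEven Q n)).2.trans (sSup_le_sSup (upperFamily_anti h3))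
    exact ⟨h5, h6, step (n + 1) h5 h6⟩

theorem map_kInf [Finite P] (h : ∀ n, kSeqEven P n ≤ f.range ∧ kSeqOdd P (n + 1) ≤ f.range) :
    (sSup (Set.range (kSeqEven Q))).map f = kInfLower P ∧ (sInf (Set.range (kSeqOdd Q))).map f = kInfUpper P := by
  haveI : Finite Q := Finite.of_injective f hf
  obtain ⟨a, ha⟩ := stabilises (P := P)
  obtain ⟨b, hb⟩ := stabilises (P := Q)
  obtain ⟨h1, h2, h3, h4⟩ := interleave hf h (max a b)
  rw [(ha _ (le_max_left a b)).1] at h3
  rw [(ha _ ((le_max_left a b).trans (Nat.le_succ _))).1] at h4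
  rw [(ha _ (le_max_left a b)).2] at h2
  rw [(ha _ ((le_max_left a b).trans (Nat.le_succ _))).2] at h1
  rw [(hb _ (le_max_right a b)).1] at h3 h4
  rw [(hb _ (le_max_right a b)).2] at h1 h2
  exact ⟨le_antisymm h4 h3, le_antisymm h2 h1⟩

end map

theorem kInf_map_of_le_range {P Q : Type*} [Group P] [Group Q] [Finite P] {f : Q →* P} (hf : Function.Injective f)
    (h : ∀ n, kSeqEven P n ≤ f.range ∧ kSeqOdd P (n + 1) ≤ f.range) :
    (kInfLower Q).map f = kInfLower P ∧ (kInfUpper Q).map f = kInfUpper P :=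
  map_kInf hf h

theorem isCharPFunctor (p : ℕ) [Fact p.Prime] :
    IsCharPFunctor.{u} p kInfLower ∧ IsCharPFunctor.{u} p kInfUpper := by
  have hiso : ∀ (Q R : Type u) [Group Q] [Group R] [Finite Q], ∀ φ : Q ≃* R,
      (kInfLower Q).map φ.toMonoidHom = kInfLower R ∧ (kInfUpper Q).map φ.toMonoidHom = kInfUpper R := by
    intro Q R _ _ _ φ
    haveI : Finite R := Finite.of_equiv Q φ.toEquiv
    refine kInf_map_of_le_range φ.injective fun n => ?_
    have : φ.toMonoidHom.range = ⊤ := MonoidHom.range_eq_top.2 φ.surjective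
    rw [this]; exact ⟨le_top, le_top⟩
  have hne : ∀ (Q : Type u) [Group Q] [Finite Q], IsPGroup p Q → Nontrivial Q → Subgroup.center Q ≠ ⊥ :=
    fun Q _ _ hQ hnt => by
      haveI := hnt
      haveI := hQ.center_nontrivial
      exact (Subgroup.nontrivial_iff_ne_bot _).1 inferInstance
  exact ⟨⟨fun Q _ _ hQ hnt e => hne Q hQ hnt (le_bot_iff.1 ((center_le_kInf hQ).1.trans e.le)),
      fun Q R _ _ _ _ φ => (hiso Q R φ).1⟩,
    ⟨fun Q _ _ hQ hnt e => hne Q hQ hnt (le_bot_iff.1 ((center_le_kInf hQ).2.trans e.le)),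
      fun Q R _ _ _ _ φ => (hiso Q R φ).2⟩⟩

end CfsgLib.KInf
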