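import Cfsg.Agent.Lib.KInf.Criterion
import Cfsg.Agent.Lib.SmallElements
import Cfsg.Agent.Lib.StrongFusion.Functors
import Cfsg.Agent.Lib.Qd

/-!
In a constrained `p`-stable group both K-infinity subgroups of a Sylow subgroup are normal; consequences for fusion.
-/

set_option autoImplicit false
set_option linter.unusedSectionVars false

namespace CfsgLib.KInf

open CfsgLib Cfsg
open scoped commutatorElement Pointwise

universe u

variable {G : Type u} [Group G] [Finite G] {p : ℕ} [hp : Fact p.Prime]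

/-- A critical subgroup of `O_p(G)`. -/
theorem exists_crit : ∃ A : Subgroup G, Crit p (pCore p G) A ∧ (A.subgroupOf (pCore p G)).Characteristic ∧
    (∀ a ∈ A, a ^ p ∈ A ⊓ Subgroup.centralizer (A : Set G)) ∧
    pCore p G ⊓ Subgroup.centralizer (A : Set G) ≤ A := by
  set T := pCore p G
  obtain ⟨C, hch, hcom, hpow, hcen⟩ := Small.exists_critical (isPGroup_pCore (G := G) p)
  have hsub : (C.map T.subtype).subgroupOf T = C := Subgroup.comap_map_eq_self_of_injective T.subtype_injective C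
  have hz : ∀ z : T, z ∈ C ⊓ Subgroup.centralizer (C : Set T) →
      (z : G) ∈ C.map T.subtype ⊓ Subgroup.centralizer (C.map T.subtype : Set G) := fun z hz =>
    ⟨⟨z, hz.1, rfl⟩, by rintro _ ⟨c, hc, rfl⟩; exact congrArg Subtype.val (hz.2 c hc)⟩
  haveI := hch
  haveI hAn : (C.map T.subtype).Normal := ConjAct.normal_of_characteristic_of_normal
  have h3 : ⁅T, C.map T.subtype⁆ ≤ C.map T.subtype ⊓ Subgroup.centralizer (C.map T.subtype : Set G) := by
    rw [Subgroup.commutator_le]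
    rintro t ht _ ⟨c, hc, rfl⟩
    exact hz ⁅(⟨t, ht⟩ : T), c⁆ (hcom ⟨t, ht⟩ c hc)
  refine ⟨C.map T.subtype, ⟨Subgroup.map_subtype_le _, isPGroup_pCore p, inferInstance, hAn,
    ((Subgroup.commutator_mono (Subgroup.map_subtype_le _) le_rfl).trans h3).trans inf_le_right, h3, rfl,
    fun φ hφ hfix => Small.eq_one_of_fixes_critical (isPGroup_pCore p) hcom hpow hcen hφ fun c hc _ =>
      hfix c ⟨c, hc, rfl⟩⟩, by rw [hsub]; exact hch, ?_, ?_⟩
  · rintro _ ⟨a, ha, rfl⟩
    exact hz (a ^ p) (hpow a ha)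
  · rintro x ⟨hxT, hx⟩
    exact ⟨⟨x, hxT⟩, hcen fun c hc => Subtype.ext (hx c ⟨c, hc, rfl⟩), rfl⟩

/-- An element acting quadratically and nontrivially on a `p`-chief factor destroys stability of the quotient. -/
theorem not_stable_quotient {U V : Subgroup G} [hVn : V.Normal] (hUV : IsChiefFactor U V) (hUp : IsPGroup p U)
    {g : G} (h2 : ⁅⁅U, Subgroup.zpowers g⁆, Subgroup.zpowers g⁆ ≤ V) (h1 : ¬ ⁅U, Subgroup.zpowers g⁆ ≤ V) :
    ¬ IsNormalizerPStable p (G ⧸ V) := fun hst => h1 <| by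
  obtain ⟨hlt, hUn, -, hchief⟩ := hUV
  haveI := hUn
  set π := QuotientGroup.mk' V
  have hsur := QuotientGroup.mk'_surjective V
  haveI : (U.map π).Normal := Subgroup.Normal.map inferInstance π hsur
  set W := U.map π
  set C := Subgroup.centralizer (W : Set (G ⧸ V))
  set π' := QuotientGroup.mk' C
  have hsur' := QuotientGroup.mk'_surjective C
  have hq : ⁅⁅W, Subgroup.zpowers (π g)⁆, Subgroup.zpowers (π g)⁆ = ⊥ := by
    rw [← MonoidHom.map_zpowers, ← Subgroup.map_commutator, ← Subgroup.map_commutator]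
    exact le_iff_map_eq_bot.1 h2
  have hmem : π' (π g) ∈ pCore p ((G ⧸ V) ⧸ C) := by
    have hn : π g ∈ Subgroup.normalizer (W : Set (G ⧸ V)) := by rw [Subgroup.normalizer_eq_top]; trivial
    have h := hst W (hUp.map π) (π g) hn hq
    let f := QuotientGroup.map ((Subgroup.centralizer (W : Set (G ⧸ V))).subgroupOf (Subgroup.normalizer (W : Set (G ⧸ V))))
      C (Subgroup.normalizer (W : Set (G ⧸ V))).subtype (fun _ hx => hx)
    have hf : Function.Surjective f := fun x => by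
      obtain ⟨y, rfl⟩ := QuotientGroup.mk_surjective x
      exact ⟨QuotientGroup.mk ⟨y, by rw [Subgroup.normalizer_eq_top]; trivial⟩, rfl⟩
    exact (le_pCore (hN := Subgroup.Normal.map inferInstance f hf) ((isPGroup_pCore p).map f) :
      (pCore p _).map f ≤ pCore p ((G ⧸ V) ⧸ C)) ⟨_, h, rfl⟩
  -- the normal `p`-subgroup of the faithful quotient acts trivially
  set M := ((pCore p ((G ⧸ V) ⧸ C)).comap π').comap π
  haveI : M.Normal := (Subgroup.Normal.comap inferInstance π').comap π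
  obtain ⟨R, hR⟩ : ∃ R : Sylow p M, True := ⟨Classical.arbitrary _, trivial⟩
  set R₀ := (R : Subgroup M).map M.subtype
  have hRp : IsPGroup p R₀ := R.2.map _
  rw [le_iff_map_eq_bot, Subgroup.map_commutator, MonoidHom.map_zpowers,
    Subgroup.commutator_eq_bot_iff_le_centralizer]
  -- fixed points of `M` on `W`
  have hW0 : W ≠ ⊥ := fun e => hlt.not_ge (le_iff_map_eq_bot.2 e)
  set P' := (pCore p ((G ⧸ V) ⧸ C)).comap π'
  haveI : P'.Normal := Subgroup.Normal.comap inferInstance π'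
  set F := W ⊓ Subgroup.centralizer (P' : Set (G ⧸ V))
  haveI : F.Normal := inferInstanceAs (W ⊓ Subgroup.centralizer (P' : Set (G ⧸ V))).Normal
  have hF : F = W := by
    rcases hchief (F.comap π) (Subgroup.Normal.comap inferInstance π) (fun v hv => by
        show π v ∈ F
        rw [show π v = 1 from (QuotientGroup.eq_one_iff v).2 hv]; exact one_mem _)
      ((Subgroup.comap_mono inf_le_left).trans (by
        rw [Subgroup.comap_map_eq, QuotientGroup.ker_mk', sup_eq_left.2 hlt.le])) with h | h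
    swap
    · show F = U.map π
      rw [← h, Subgroup.map_comap_eq_self_of_surjective hsur]
    exfalso
    have hFbot : F = ⊥ := by
      rw [← Subgroup.map_comap_eq_self_of_surjective hsur F, h]
      exact le_iff_map_eq_bot.1 le_rfl
    -- a fixed point exists
    haveI : (pCore p ((G ⧸ V) ⧸ C)).Normal := inferInstance
    let act : MulAction ((pCore p ((G ⧸ V) ⧸ C) : Subgroup _)) W :=
      MulAction.compHom W (((QuotientGroup.lift C (MulAut.conjNormal (H := W)) (fun x hx => MulEquiv.ext fun w =>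
        Subtype.ext (by
          rw [MulAut.conjNormal_apply, ← hx w w.2, mul_inv_cancel_right]; rfl))).comp
        (pCore p ((G ⧸ V) ⧸ C)).subtype))
    have hd : p ∣ Nat.card W := by
      obtain ⟨k, hk⟩ := IsPGroup.iff_card.1 (hUp.map π)
      rw [hk]
      refine dvd_pow_self p fun h0 => hW0 (Subgroup.card_eq_one.1 (by rw [hk, h0, pow_zero]))
    have h1f : (1 : W) ∈ MulAction.fixedPoints ((pCore p ((G ⧸ V) ⧸ C) : Subgroup _)) W := fun m => by
      obtain ⟨m, hm⟩ := m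
      obtain ⟨y, rfl⟩ := hsur' m
      apply Subtype.ext
      show y * 1 * y⁻¹ = 1
      group
    obtain ⟨w, hw, hw1⟩ := (isPGroup_pCore (G := (G ⧸ V) ⧸ C) p).exists_fixed_point_of_prime_dvd_card_of_fixed_point
      W hd h1f
    refine hw1 (Subtype.ext ?_)
    have hwF : (w : G ⧸ V) ∈ F := ⟨w.2, fun x hx => by
      have h := congrArg Subtype.val (hw ⟨π' x, hx⟩)
      have h' : x * (w : G ⧸ V) * x⁻¹ = w := h
      exact mul_inv_eq_iff_eq_mul.1 h'⟩
    rw [hFbot, Subgroup.mem_bot] at hwF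
    simpa using hwF.symm
  have hle : W ≤ Subgroup.centralizer (P' : Set (G ⧸ V)) := hF.ge.trans inf_le_right
  exact hle.trans (Subgroup.centralizer_le (SetLike.coe_subset_coe.2 (Subgroup.zpowers_le.2 hmem)))

/-- Failure of normality gives an unstable quotient. -/
theorem exists_not_stable (hcon : Subgroup.centralizer (pCore p G : Set G) ≤ pCore p G) (S : Sylow p G)
    (hK : ¬ (inducedFunctor kInfLower (S : Subgroup G)).Normal ∨
      ¬ (inducedFunctor kInfUpper (S : Subgroup G)).Normal) :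
    ∃ (N : Subgroup G) (_ : N.Normal), ¬ IsNormalizerPStable p (G ⧸ N) := by
  obtain ⟨A, hA, -⟩ := exists_crit (G := G) (p := p)
  obtain ⟨g, -, -, -, -, hex⟩ := witness_of_not_normal S hA hK
  obtain ⟨U, V, hUV, hUA, h2, h1⟩ := hex hcon
  haveI := hUV.2.2.1
  exact ⟨V, hUV.2.2.1, not_stable_quotient hUV (hA.pGroup.to_le (hUA.trans hA.le)) h2 h1⟩

/-- Both K-infinity subgroups are normal in a constrained `Qd(p)`-free group. -/
theorem normal_of_free (hp2 : p ≠ 2) (hfree : ¬ Involves (Cfsg.qd p) G)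
    (hcon : Subgroup.centralizer (pCore p G : Set G) ≤ pCore p G) (S : Sylow p G) :
    (inducedFunctor kInfLower (S : Subgroup G)).Normal ∧ (inducedFunctor kInfUpper (S : Subgroup G)).Normal := by
  by_contra hn
  obtain ⟨N, hN, hns⟩ := exists_not_stable hcon S (not_and_or.1 hn)
  refine hns (Quadratic.isNormalizerPStable_of_free hp2 fun h => hfree ?_)
  obtain ⟨K, R, hR, ⟨e⟩⟩ := h
  obtain ⟨g', hg'⟩ := Quadratic.exists_surjective_comap (QuotientGroup.mk' N) (QuotientGroup.mk'_surjective N)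
    (e.toMonoidHom.comp (QuotientGroup.mk' (R.subgroupOf K))) (e.surjective.comp (QuotientGroup.mk'_surjective _))
  exact QdSection.involves_of_surjective _ g' hg'

theorem base_kInf (hp2 : p ≠ 2) (hfree : ¬ Involves (Cfsg.qd p) G)
    {W : ∀ (Q : Type u) [Group Q], Subgroup Q} (hW : W = kInfLower ∨ W = kInfUpper) :
    StrongFusion.Base p {W} True G := by
  intro Y _ _ hY hcon T D hD hfull A g hA hg
  have hfreeY : ¬ Involves (Cfsg.qd p) Y := by
    intro h
    apply hfree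
    obtain ⟨K, R, hR, ⟨e⟩⟩ := hY
    refine Quadratic.involves_section K R ?_
    obtain ⟨A, B, hB, ⟨e'⟩⟩ := h
    obtain ⟨f, hf⟩ := Quadratic.exists_surjective_map e.symm.toMonoidHom e.symm.injective
      (e'.toMonoidHom.comp (QuotientGroup.mk' (B.subgroupOf A))) (e'.surjective.comp (QuotientGroup.mk'_surjective _))
    exact QdSection.involves_of_surjective _ f hf
  obtain ⟨h1, h2⟩ := normal_of_free hp2 hfreeY hcon T
  refine .single (StrongFusion.mem_steps_famAt.2 ⟨W, rfl, ?_⟩) hA hg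
  rw [inf_eq_left.2 hD.1, hfull trivial]
  rcases hW with rfl | rfl
  · haveI := h1; rw [Subgroup.normalizer_eq_top]; trivial
  · haveI := h2; rw [Subgroup.normalizer_eq_top]; trivial

/-- Control of strong fusion in `Qd(p)`-free groups. -/
theorem controls_of_free (hp2 : p ≠ 2) (hfree : ¬ Involves (Cfsg.qd p) G)
    {W : ∀ (Q : Type u) [Group Q], Subgroup Q} (hW : W = kInfLower ∨ W = kInfUpper) (S : Sylow p G) :
    ControlsStrongFusion p (inducedFunctor W (S : Subgroup G)) := by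
  have h𝔚 : ∀ W' ∈ ({W} : Set (∀ (Q : Type u) [Group Q], Subgroup Q)), IsCharPFunctor p W' := by
    rintro W' rfl
    rcases hW with rfl | rfl
    exacts [(isCharPFunctor p).1, (isCharPFunctor p).2]
  refine ⟨S, StrongFusion.inducedFunctor_le W _, fun A hA => StrongFusion.controlsOf_of_chain S ?_
    (fun B g hB hg => StrongFusion.ctrl_of_base {W} True h𝔚 (base_kInf hp2 hfree hW) S (S : Subgroup G)
      ⟨le_rfl, fun x _ y hy => hy⟩ (fun _ => rfl) B g hB hg) hA⟩
  intro n hn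
  obtain ⟨W', rfl, hn'⟩ := StrongFusion.mem_steps_famAt.1 hn
  show n ∈ Subgroup.normalizer _
  rwa [inf_idem] at hn'

/-- If every section is `p`-stable then `Qd(p)` is not involved. -/
theorem free_of_sections_stable (hp2 : p ≠ 2)
    (hst : ∀ (K R : Subgroup G) [hR : (R.subgroupOf K).Normal], IsNormalizerPStable p (↥K ⧸ R.subgroupOf K)) :
    ¬ Involves (Cfsg.qd p) G := by
  rintro ⟨K, R, hR, ⟨e⟩⟩
  exact Quadratic.not_isNormalizerPStable_of_equiv hp2 e (hst K R)

/-- The lower K-infinity subgroup does not control fusion in `Qd(p)`. -/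
theorem not_controls_qd {X : Type u} [Group X] [Finite X] (e : X ≃* Cfsg.qd p)
    (h : ∀ T : Sylow p X, ControlsStrongFusion p (inducedFunctor kInfLower (T : Subgroup X))) : False := by
  set φ := e.symm.toMonoidHom with hφ
  have hinj : Function.Injective φ := e.symm.injective
  let B₀ : Subgroup (Cfsg.qd p) :=
    { carrier := {g | ∃ c x : ZMod p, g = Qd.el 1 c 0 1 x 0 (by ring)}
      one_mem' := ⟨0, 0, Qd.el_one⟩
      mul_mem' := by
        rintro _ _ ⟨c, x, rfl⟩ ⟨c', x', rfl⟩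
        refine ⟨c + c', x + x', ?_⟩
        rw [Qd.el_mul]
        exact Qd.el_congr (by ring) (by ring) (by ring) (by ring) (by ring) (by ring)
      inv_mem' := by
        rintro _ ⟨c, x, rfl⟩
        refine ⟨-c, -x, inv_eq_of_mul_eq_one_right ?_⟩
        rw [Qd.el_mul, Qd.el_one]
        exact Qd.el_congr (by ring) (by ring) (by ring) (by ring) (by ring) (by ring) }
  let P₀ : Subgroup (Cfsg.qd p) :=
    { carrier := {g | ∃ c x y : ZMod p, g = Qd.el 1 c 0 1 x y (by ring)}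
      one_mem' := ⟨0, 0, 0, Qd.el_one⟩
      mul_mem' := by
        rintro _ _ ⟨c, x, y, rfl⟩ ⟨c', x', y', rfl⟩
        refine ⟨c + c', x + x' + c * y', y + y', ?_⟩
        rw [Qd.el_mul]
        exact Qd.el_congr (by ring) (by ring) (by ring) (by ring) (by ring) (by ring)
      inv_mem' := by
        rintro _ ⟨c, x, y, rfl⟩
        refine ⟨-c, -x + c * y, -y, inv_eq_of_mul_eq_one_right ?_⟩
        rw [Qd.el_mul, Qd.el_one]
        exact Qd.el_congr (by ring) (by ring) (by ring) (by ring) (by ring) (by ring) }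
  have hWP : Qd.W p ≤ P₀ := by rintro _ ⟨x, y, rfl⟩; exact ⟨0, x, y, rfl⟩
  have hBP : B₀ ≤ P₀ := by rintro _ ⟨c, x, rfl⟩; exact ⟨c, x, 0, rfl⟩
  have hBn : ∀ g ∈ P₀, ∀ b ∈ B₀, g * b * g⁻¹ ∈ B₀ := by
    rintro _ ⟨c, x, y, rfl⟩ _ ⟨c', x', rfl⟩
    refine ⟨c', x' - c' * y, ?_⟩
    rw [mul_inv_eq_iff_eq_mul, Qd.el_mul, Qd.el_mul]
    exact Qd.el_congr (by ring) (by ring) (by ring) (by ring) (by ring) (by ring)
  have hP₀ : P₀ ≤ B₀ ⊔ Qd.W p := by
    rintro _ ⟨c, x, y, rfl⟩
    rw [show Qd.el (1 : ZMod p) c 0 1 x y (by ring) = Qd.el 1 c 0 1 0 0 (by ring) * Qd.tr (x - c * y) y by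
      rw [Qd.tr, Qd.el_mul]; exact Qd.el_congr (by ring) (by ring) (by ring) (by ring) (by ring) (by ring)]
    exact mul_mem (Subgroup.mem_sup_left ⟨c, 0, rfl⟩) (Subgroup.mem_sup_right (Qd.tr_mem _ _))
  have hPp : IsPGroup p P₀ := by
    intro g
    obtain ⟨c, x, y, hg⟩ := g.2
    have hup : ∀ c : ZMod p, (Qd.up c : Cfsg.qd p) ^ p = 1 := fun c => by
      rw [Qd.up_pow, ZMod.natCast_self, zero_mul]; exact Qd.el_one.symm
    refine ⟨2, ?_⟩
    have h1 : (g : Cfsg.qd p) ^ p ∈ Qd.W p := by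
      have key : ∀ n : ℕ, ∃ x' y', (g : Cfsg.qd p) ^ n = Qd.el 1 ((n : ZMod p) * c) 0 1 x' y' (by ring) := by
        intro n
        induction n with
        | zero => exact ⟨0, 0, by rw [pow_zero, Qd.el_one]; exact Qd.el_congr rfl (by simp) rfl rfl rfl rfl⟩
        | succ n ih =>
          obtain ⟨x', y', hn⟩ := ih
          refine ⟨x + ((n : ZMod p) * c) * y + x', y + y', ?_⟩
          rw [pow_succ, hn, hg, Qd.el_mul]
          exact Qd.el_congr (by ring) (by push_cast; ring) (by ring) (by ring) (by ring) (by ring)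
      obtain ⟨x', y', hn⟩ := key p
      rw [hn]
      exact ⟨x', y', Qd.el_congr rfl (by simp) rfl rfl rfl rfl⟩
    obtain ⟨x', y', hw⟩ := h1
    have hwp : ∀ n : ℕ, (Qd.tr x' y' : Cfsg.qd p) ^ n = Qd.tr ((n : ZMod p) * x') ((n : ZMod p) * y') := by
      intro n
      induction n with
      | zero => rw [pow_zero]; simp [Qd.tr_zero]
      | succ n ih => rw [pow_succ, ih, Qd.tr_mul]; push_cast; ring_nf
    apply Subtype.ext
    show (g : Cfsg.qd p) ^ p ^ 2 = 1
    rw [pow_two, pow_mul, hw, hwp, ZMod.natCast_self, zero_mul, zero_mul, Qd.tr_zero]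
  obtain ⟨T₀, hT₀⟩ := (hPp.map φ).exists_le_sylow
  -- the fixed line
  haveI : (Qd.W p).Normal := inferInstance
  haveI : ((Qd.W p).map φ).Normal := Subgroup.Normal.map inferInstance φ e.symm.surjective
  have hW0 : (Qd.W p).map φ ≠ ⊥ := fun h0 => by
    have := congrArg (fun S : Subgroup X => Nat.card S) h0
    simp only [Subgroup.card_map_of_injective hinj, Qd.card_W, Subgroup.card_bot] at this
    exact absurd this (Nat.one_lt_pow two_ne_zero hp.out.one_lt).ne'
  haveI : Group.IsNilpotent (T₀ : Subgroup X) := T₀.2.isNilpotent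
  obtain ⟨⟨⟨z, hzT⟩, hz⟩, hz1⟩ := (Subgroup.ne_bot_iff_exists_ne_one).1
    (CfsgLib.inf_center_ne_bot_of_nilpotent (G := (T₀ : Subgroup X))
      (N := ((Qd.W p).map φ).subgroupOf (T₀ : Subgroup X)) (fun h0 => hW0 (by
        rw [← Subgroup.map_subgroupOf_eq_of_le ((Subgroup.map_mono hWP).trans hT₀), h0, Subgroup.map_bot])))
  obtain ⟨_, ⟨x₀, y₀, rfl⟩, hze⟩ := hz.1
  have hcentral : ∀ t ∈ (T₀ : Subgroup X), t * z = z * t := fun t ht =>
    congrArg Subtype.val (Subgroup.mem_center_iff.1 hz.2 ⟨t, ht⟩)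
  have hcom : ∀ g : Cfsg.qd p, φ g ∈ (T₀ : Subgroup X) → g * Qd.tr x₀ y₀ = Qd.tr x₀ y₀ * g := fun g hg =>
    hinj (by rw [map_mul, map_mul]; exact (show φ (Qd.tr x₀ y₀) = z from hze) ▸ hcentral _ hg)
  have hy0 : y₀ = 0 := by
    have h := hcom (Qd.up 1) (hT₀ ⟨_, ⟨1, 0, 0, rfl⟩, rfl⟩)
    rw [show (Qd.up (1 : ZMod p)) * Qd.tr x₀ y₀ = Qd.up 1 * Qd.tr x₀ y₀ * (Qd.up 1)⁻¹ * Qd.up 1 by group,
      Qd.up_tr] at h
    have h' := (Qd.tr_injective (mul_right_cancel h)).1
    simpa using h'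
  subst hy0
  have hx0 : x₀ ≠ 0 := by
    rintro rfl
    refine hz1 (Subtype.ext (Subtype.ext ?_))
    show z = 1
    rw [← (show φ (Qd.tr 0 0) = z from hze), Qd.tr_zero, map_one]
  have hT₀le : (T₀ : Subgroup X) ≤ P₀.map φ := by
    intro t ht
    obtain ⟨a, b, c, d, x, y, hdet, hg⟩ := Qd.exists_el (e t)
    have h := hcom (e t) (by rw [hφ]; simpa using ht)
    rw [hg, Qd.tr, Qd.el_mul, Qd.el_mul] at h
    have hm := congrArg (fun g : Cfsg.qd p => ((g : Matrix.SpecialLinearGroup (Fin 3) (ZMod p)) :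
      Matrix (Fin 3) (Fin 3) (ZMod p))) h
    have e1 := congrFun (congrFun hm 0) 2
    have e2 := congrFun (congrFun hm 1) 2
    simp [Qd.el, Qd.mat] at e1 e2
    have ha : a = 1 := by
      have : (a - 1) * x₀ = 0 := by linear_combination e1
      exact sub_eq_zero.1 ((mul_eq_zero.1 this).resolve_right hx0)
    have hc : c = 0 := e2.resolve_right hx0
    subst ha hc
    have hd : d = 1 := by linear_combination hdet
    subst hd
    exact ⟨e t, ⟨b, x, y, hg⟩, e.symm_apply_apply t⟩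
  -- the functor is the whole Sylow subgroup
  have hU : inducedFunctor kInfLower (T₀ : Subgroup X) = (T₀ : Subgroup X) := by
    refine le_antisymm (StrongFusion.inducedFunctor_le _ _) (hT₀le.trans ((Subgroup.map_mono hP₀).trans ?_))
    rw [Subgroup.map_sup]
    have hmem : ∀ M : Subgroup (Cfsg.qd p), M ≤ P₀ → (∀ g ∈ P₀, ∀ m ∈ M, g * m * g⁻¹ ∈ M) →
        (∀ a ∈ M, ∀ b ∈ M, a * b = b * a) → M.map φ ≤ inducedFunctor kInfLower (T₀ : Subgroup X) := by
      intro M hMP hMn hMc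
      have hle : M.map φ ≤ (T₀ : Subgroup X) := (Subgroup.map_mono hMP).trans hT₀
      rw [← Subgroup.map_subgroupOf_eq_of_le hle]
      refine Subgroup.map_mono (le_trans (le_sSup ?_) (le_iSup (kSeqEven (T₀ : Subgroup X)) 0))
      set A := (M.map φ).subgroupOf (T₀ : Subgroup X)
      haveI : A.Normal := ⟨fun a ha t => by
        obtain ⟨m, hm, hme⟩ := ha
        obtain ⟨g, hg, hge⟩ := hT₀le t.2
        exact ⟨g * m * g⁻¹, hMn g hg m hm, by simp [hge, hme]⟩⟩
      have hcomm : ∀ a ∈ A, ∀ b ∈ A, a * b = b * a := by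
        intro a ha b hb
        obtain ⟨m, hm, hme⟩ := ha
        obtain ⟨n, hn, hne⟩ := hb
        apply Subtype.ext
        show (a : X) * b = b * a
        rw [show (a : X) = φ m from hme.symm, show (b : X) = φ n from hne.symm, ← map_mul, ← map_mul, hMc m hm n hn]
      have hAC : A ≤ Subgroup.centralizer (A : Set (T₀ : Subgroup X)) := fun a ha b hb => hcomm b hb a ha
      refine ⟨(Subgroup.commutator_le_self A).trans hAC, by simp [Subgroup.normalizer_eq_top],
        fun B _ _ _ _ _ => ?_⟩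
      rw [inf_eq_left.2 hAC]
      exact Subgroup.commutator_le_left A B
    refine sup_le (hmem B₀ hBP hBn ?_) (hmem (Qd.W p) hWP (fun g _ m hm => (inferInstance : (Qd.W p).Normal).conj_mem m hm g) ?_)
    · rintro _ ⟨c, x, rfl⟩ _ ⟨c', x', rfl⟩
      rw [Qd.el_mul, Qd.el_mul]
      exact Qd.el_congr (by ring) (by ring) (by ring) (by ring) (by ring) (by ring)
    · rintro _ ⟨x, y, rfl⟩ _ ⟨x', y', rfl⟩
      rw [Qd.tr_mul, Qd.tr_mul, add_comm x, add_comm y]
  obtain ⟨T, hUT, hctl⟩ := h T₀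
  rw [hU] at hUT hctl
  have hTeq : (T : Subgroup X) = (T₀ : Subgroup X) := T₀.3 T.2 hUT
  have hmemT : ∀ x y, φ (Qd.tr x y) ∈ (T₀ : Subgroup X) := fun x y => hT₀ ⟨_, hWP (Qd.tr_mem x y), rfl⟩
  obtain ⟨n, hn, he⟩ := (hctl {z} (by
    rintro a rfl; rw [hTeq]; exact hzT)).2 (φ Qd.w) (by
    rintro _ ⟨a, rfl, rfl⟩
    rw [hTeq]
    show φ Qd.w * a * (φ Qd.w)⁻¹ ∈ (T₀ : Subgroup X)
    rw [show φ Qd.w * a * (φ Qd.w)⁻¹ = φ (Qd.w * Qd.tr x₀ 0 * Qd.w⁻¹) by
      rw [map_mul, map_mul, map_inv, show φ (Qd.tr x₀ 0) = a from hze], Qd.w_tr]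
    exact hmemT _ _)
  have hz' : φ (Qd.tr 0 (-x₀)) = n * z * n⁻¹ := by
    rw [← he z rfl, ← Qd.w_tr, map_mul, map_mul, map_inv, show φ (Qd.tr x₀ 0) = z from hze]
  have hcen' : φ (Qd.up 1) * (n * z * n⁻¹) = n * z * n⁻¹ * φ (Qd.up 1) := by
    have hm := (Subgroup.mem_normalizer_iff.1 ((Subgroup.normalizer _).inv_mem hn) (φ (Qd.up 1))).1
      (hT₀ ⟨_, ⟨1, 0, 0, rfl⟩, rfl⟩)
    rw [inv_inv] at hm
    have := hcentral _ hm
    calc φ (Qd.up 1) * (n * z * n⁻¹) = n * (n⁻¹ * φ (Qd.up 1) * n * z) * n⁻¹ := by group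
      _ = n * z * n⁻¹ * φ (Qd.up 1) := by rw [this]; group
  rw [← hz', ← map_mul, ← map_mul] at hcen'
  have h := hinj hcen'
  rw [show (Qd.up (1 : ZMod p)) * Qd.tr 0 (-x₀) = Qd.up 1 * Qd.tr 0 (-x₀) * (Qd.up 1)⁻¹ * Qd.up 1 by group,
    Qd.up_tr] at h
  have h' := (Qd.tr_injective (mul_right_cancel h)).1
  exact hx0 (by simpa using h')

end CfsgLib.KInf
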